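/-
H23: groups given by Steinberg's relations (R1), (R2) only: a copy of helper22's theory of `CvG` without (R3).
-/
import Cfsg.Agent.Lib.H22.StSys
set_option autoImplicit false
set_option linter.unusedVariables false

namespace H23.Cv

open H22.RGD H22.Coord H22.RCCheck H22.RCComb H22.ChevTri H22.ChevRel H22.ChevSys H22.ChevMain
open H22.ChevStd H22.ChevSolv H22.ChevUni H22.St
open Cfsg.Lie (ChevalleyDatum)
open scoped MatrixGroups Matrix

variable {D : ChevalleyDatum} {F : Type*} [Field F]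

/-- A group with generators satisfying Steinberg's relations, mapping onto the Chevalley group. -/
structure CvG (R : Rel D F) (Gb : Type*) [Group Gb] where
  xb : ℕ → F → Gb
  add : ∀ r < D.nroots, ∀ t u : F, xb r t * xb r u = xb r (t + u)
  comm : ∀ r < D.nroots, ∀ s < D.nroots, s ≠ r → s ≠ D.neg r → ∀ t u : F,
    (xb s u)⁻¹ * (xb r t)⁻¹ * xb s u * xb r t = ((D.commWord F r s t u).map fun p => xb p.1 p.2).prod
  gen : Subgroup.closure {g | ∃ (r : ℕ) (t : F), r < D.nroots ∧ g = xb r t} = ⊤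
  θ : Gb →* GL D.Idx F
  θ_x : ∀ r < D.nroots, ∀ t : F, θ (xb r t) = xg R r t

namespace CvG

variable {R : Rel D F} {Gb : Type*} [Group Gb] (S : CvG R Gb)

theorem xb_zero {r : ℕ} (hr : r < D.nroots) : S.xb r 0 = 1 := by
  have := S.add r hr 0 0
  rw [add_zero] at this
  exact mul_eq_left.1 this

theorem xb_inv {r : ℕ} (hr : r < D.nroots) (t : F) : (S.xb r t)⁻¹ = S.xb r (-t) := by
  rw [inv_eq_iff_mul_eq_one, S.add r hr, add_neg_cancel, S.xb_zero hr]

/-- root subgroups -/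
def Xb (r : ℕ) : Subgroup Gb := Subgroup.closure {g | ∃ t : F, g = S.xb r t}

theorem xb_mem (r : ℕ) (t : F) : S.xb r t ∈ S.Xb r := Subgroup.subset_closure ⟨t, rfl⟩

theorem mem_Xb {r : ℕ} (hr : r < D.nroots) {g : Gb} : g ∈ S.Xb r ↔ ∃ t, g = S.xb r t := by
  constructor
  · intro h
    unfold Xb at h
    induction h using Subgroup.closure_induction with
    | mem x hx => exact hx
    | one => exact ⟨0, (S.xb_zero hr).symm⟩
    | mul x y _ _ hx hy =>
      obtain ⟨t, rfl⟩ := hx; obtain ⟨u, rfl⟩ := hy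
      exact ⟨t + u, S.add r hr t u⟩
    | inv x _ hx =>
      obtain ⟨t, rfl⟩ := hx
      exact ⟨-t, S.xb_inv hr t⟩
  · rintro ⟨t, rfl⟩; exact S.xb_mem r t

/-- words -/
def wb (w : List (ℕ × F)) : Gb := (w.map fun p => S.xb p.1 p.2).prod

theorem wb_mem {K : Subgroup Gb} (w : List (ℕ × F)) (h : ∀ p ∈ w, S.xb p.1 p.2 ∈ K) : S.wb w ∈ K := by
  unfold wb
  apply Subgroup.list_prod_mem
  intro x hx
  simp only [List.mem_map] at hx
  obtain ⟨p, hp, rfl⟩ := hx
  exact h p hp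

theorem θ_wb (w : List (ℕ × F)) (h : ∀ p ∈ w, p.1 < D.nroots) : S.θ (S.wb w) = wg R w := by
  unfold wb wg
  rw [map_list_prod, List.map_map]
  congr 1
  apply List.map_congr_left
  intro p hp
  exact S.θ_x _ (h p hp) _

/-- `n̄_r(t)` -/
def nb (r : ℕ) (t : F) : Gb := S.wb (D.nWord r t)
/-- `h̄_r(t)` -/
def hb (r : ℕ) (t : F) : Gb := S.wb (D.hWord r t)

theorem nb_def (r : ℕ) (t : F) : S.nb r t = S.xb r t * S.xb (D.neg r) (-t⁻¹) * S.xb r t := by
  simp [nb, wb, ChevalleyDatum.nWord, mul_assoc]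

theorem hb_def (r : ℕ) (t : F) : S.hb r t = S.nb r t * S.nb r (-1) := by
  simp [hb, nb, wb, ChevalleyDatum.hWord]

theorem nb_inv (Q : RC D) {r : ℕ} (hr : r < D.nroots) (t : F) : (S.nb r t)⁻¹ = S.nb r (-t) := by
  rw [nb_def, nb_def, mul_inv_rev, mul_inv_rev, S.xb_inv hr, S.xb_inv (neg_lt Q hr), mul_assoc]
  congr 3
  rw [inv_neg]

theorem θ_nb (Q : RC D) {r : ℕ} (hr : r < D.nroots) (t : F) : S.θ (S.nb r t) = ng R r t := by
  unfold nb ng
  apply S.θ_wb
  intro p hp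
  simp only [ChevalleyDatum.nWord, List.mem_cons, List.not_mem_nil, or_false] at hp
  rcases hp with rfl | rfl | rfl
  · exact hr
  · exact neg_lt Q hr
  · exact hr

theorem θ_hb (Q : RC D) {r : ℕ} (hr : r < D.nroots) (t : F) : S.θ (S.hb r t) = hg R r t := by
  rw [hb_def, hg_def, map_mul, S.θ_nb Q hr, S.θ_nb Q hr]

theorem conj_eq (r s : ℕ) (hr : r < D.nroots) (hs : s < D.nroots) (h1 : s ≠ r) (h2 : s ≠ D.neg r)
    (t u : F) : S.xb r t * S.xb s u * (S.xb r t)⁻¹ = S.xb s u * S.wb (D.commWord F r s (-t) u) := by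
  have h3 := S.comm r hr s hs h1 h2 (-t) u
  have h4 : S.xb r (-t) = (S.xb r t)⁻¹ := (S.xb_inv hr t).symm
  rw [h4, inv_inv] at h3
  unfold wb
  rw [← h3]; simp [mul_assoc]

theorem conj_mem_of_closed (Q : RC D) {K : Subgroup Gb} {r s : ℕ} (hr : r < D.nroots)
    (hs : s < D.nroots) (h1 : s ≠ r) (h2 : s ≠ D.neg r) (hK : ∀ u : F, S.xb s u ∈ K)
    (hK' : ∀ k < D.nroots, ∀ a b : ℕ, 1 ≤ a → 1 ≤ b →
      (∀ j < D.rank, Q.co k j = a * Q.co r j + b * Q.co s j) → ∀ v : F, S.xb k v ∈ K) (t u : F) :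
    S.xb r t * S.xb s u * (S.xb r t)⁻¹ ∈ K := by
  rw [S.conj_eq r s hr hs h1 h2]
  refine K.mul_mem (hK u) (S.wb_mem _ ?_)
  intro p hp
  unfold ChevalleyDatum.commWord at hp
  simp only [List.mem_map] at hp
  obtain ⟨c, hc, rfl⟩ := hp
  obtain ⟨g1, g2, g3, g4⟩ := commTerms_co Q hr hs hc
  exact hK' _ g1 _ _ g2 g3 g4 _

/-- the subgroup generated by the root elements with roots in `P` -/
def gp (P : ℕ → Prop) : Subgroup Gb :=
  Subgroup.closure {g | ∃ (r : ℕ) (t : F), r < D.nroots ∧ P r ∧ g = S.xb r t}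

theorem mem_gp {P : ℕ → Prop} {r : ℕ} (hr : r < D.nroots) (h : P r) (t : F) : S.xb r t ∈ S.gp P :=
  Subgroup.subset_closure ⟨r, t, hr, h, rfl⟩

theorem gp_mono {P P' : ℕ → Prop} (h : ∀ r < D.nroots, P r → P' r) : S.gp P ≤ S.gp P' := by
  unfold gp
  apply Subgroup.closure_mono
  rintro g ⟨r, t, hr, hP, rfl⟩
  exact ⟨r, t, hr, h r hr hP, rfl⟩

theorem stab_gp (Q : RC D) {P : ℕ → Prop} {r : ℕ} (hr : r < D.nroots)
    (h1 : ∀ s < D.nroots, P s → s ≠ r) (h2 : ∀ s < D.nroots, P s → s ≠ D.neg r)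
    (h3 : ∀ s < D.nroots, P s → ∀ k < D.nroots, ∀ a b : ℕ, 1 ≤ a → 1 ≤ b →
      (∀ j < D.rank, Q.co k j = a * Q.co r j + b * Q.co s j) → P k) : S.Xb r ≤ stabSub (S.gp P) := by
  apply stab_of_closure
  rintro a ha _ ⟨s, u, hs, hP, rfl⟩
  obtain ⟨t, rfl⟩ := (S.mem_Xb hr).1 ha
  exact S.conj_mem_of_closed Q hr hs (h1 s hs hP) (h2 s hs hP) (fun u => S.mem_gp hs hP u)
    (fun k hk a b ha hb hco v => S.mem_gp hk (h3 s hs hP k hk a b ha hb hco) v) t u

theorem θ_gp_le (Q : RC D) (c : ℕ → ℤ) (m : ℕ) :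
    (S.gp (fun r => (m : ℤ) ≤ fr Q c r)).map S.θ ≤ Uk F (fn Q c) m := by
  unfold gp
  rw [MonoidHom.map_closure, Subgroup.closure_le]
  rintro _ ⟨_, ⟨r, t, hr, h, rfl⟩, rfl⟩
  rw [SetLike.mem_coe, S.θ_x r hr]
  exact xg_mem_Uk R Q c hr h t

/-- injectivity of `θ` on the half-space unipotent groups -/
theorem inj_aux {Q : RC D} (Z : Lex Q) (c : Gen Q) : ∀ n m : ℕ, 1 ≤ m →
    (∀ r < D.nroots, fr Q c.c r < m + n) → ∀ g ∈ S.gp (fun r => (m : ℤ) ≤ fr Q c.c r),
      S.θ g = 1 → g = 1 := by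
  intro n
  induction n with
  | zero =>
    intro m _ hlt g hg _
    have : S.gp (fun r => (m : ℤ) ≤ fr Q c.c r) = ⊥ := by
      rw [eq_bot_iff]
      unfold gp
      rw [Subgroup.closure_le]
      rintro _ ⟨r, t, hr, h, rfl⟩
      have := hlt r hr
      push_cast at this
      omega
    rw [this, Subgroup.mem_bot] at hg
    exact hg
  | succ n ih =>
    intro m hm hlt g hg h1
    have ih' := ih (m + 1) (by omega) (fun r hr => by have := hlt r hr; push_cast at this ⊢; omega)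
    by_cases hex : ∃ r < D.nroots, fr Q c.c r = m
    · obtain ⟨r, hr, hrm⟩ := hex
      have hle : S.gp (fun r => (m : ℤ) ≤ fr Q c.c r) ≤
          S.gp (fun r => ((m + 1 : ℕ) : ℤ) ≤ fr Q c.c r) ⊔ S.Xb r := by
        unfold gp
        rw [Subgroup.closure_le]
        rintro _ ⟨s, t, hs, h, rfl⟩
        by_cases hsr : s = r
        · subst hsr; exact Subgroup.mem_sup_right (S.xb_mem _ _)
        · refine Subgroup.mem_sup_left (S.mem_gp hs ?_ t)
          have : fr Q c.c s ≠ fr Q c.c r := fun h => hsr (c.inj s hs r hr h)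
          push_cast
          omega
      have hst : S.Xb r ≤ stabSub (S.gp (fun r => ((m + 1 : ℕ) : ℤ) ≤ fr Q c.c r)) := by
        refine S.stab_gp Q hr ?_ ?_ ?_
        · rintro s hs h rfl
          push_cast at h
          omega
        · rintro s hs h rfl
          rw [fr_neg Q _ hr] at h
          push_cast at h
          omega
        · intro s hs h k hk a b ha hb hco
          rw [fr_lin Q c.c hco, hrm]
          have e1 : 0 < (a : ℤ) * m := mul_pos (by exact_mod_cast ha) (by exact_mod_cast hm)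
          have e2 : fr Q c.c s ≤ b * fr Q c.c s := by
            calc fr Q c.c s = 1 * fr Q c.c s := by ring
              _ ≤ b * fr Q c.c s := by
                apply mul_le_mul_of_nonneg_right (by exact_mod_cast hb)
                push_cast at h; omega
          push_cast at h ⊢
          omega
      obtain ⟨v, hv, x, hx, rfl⟩ := (mem_sup_of_normalizes hst).1 (hle hg)
      obtain ⟨t, rfl⟩ := (S.mem_Xb hr).1 hx
      have h2 : S.θ v = xg R r (-t) := by
        rw [map_mul, S.θ_x r hr] at h1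
        rw [eq_inv_of_mul_eq_one_left h1, xg_inv]
      have h3 : xg R r (-t) ∈ Uk F (fn Q c.c) (m + 1) := by
        rw [← h2]
        exact S.θ_gp_le Q c.c (m + 1) ⟨v, hv, rfl⟩
      have h4 : t = 0 := neg_eq_zero.1 (eq_zero_of_mem_Uk R Z c.c hr hrm h3)
      rw [h4, S.xb_zero hr, mul_one]
      rw [h4, S.xb_zero hr, mul_one] at h1
      exact ih' v hv h1
    · refine ih' g (S.gp_mono ?_ hg) h1
      intro r hr h
      by_contra hcon
      push_cast at hcon
      exact hex ⟨r, hr, by omega⟩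

theorem inj_gp {Q : RC D} (Z : Lex Q) (c : Gen Q) {g : Gb} (hg : g ∈ S.gp (fun r => 0 < fr Q c.c r))
    (h : S.θ g = 1) : g = 1 := by
  have hb : ∃ n : ℕ, ∀ r < D.nroots, fr Q c.c r < 1 + n := by
    refine ⟨∑ r ∈ Finset.range D.nroots, (fr Q c.c r).natAbs, fun r hr => ?_⟩
    have h1 : (fr Q c.c r).natAbs ≤ ∑ r ∈ Finset.range D.nroots, (fr Q c.c r).natAbs :=
      Finset.single_le_sum (f := fun r => (fr Q c.c r).natAbs) (fun _ _ => Nat.zero_le _)
        (Finset.mem_range.2 hr)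
    have h2 : fr Q c.c r ≤ (fr Q c.c r).natAbs := Int.le_natAbs
    have h3 : ((fr Q c.c r).natAbs : ℤ) ≤ ((∑ r ∈ Finset.range D.nroots, (fr Q c.c r).natAbs : ℕ) : ℤ) := by
      exact_mod_cast h1
    omega
  obtain ⟨n, hn⟩ := hb
  refine S.inj_aux Z c n 1 le_rfl (fun r hr => by simpa using hn r hr) g (S.gp_mono ?_ hg) h
  intro r _ h
  simpa using Int.lt_iff_add_one_le.1 h

theorem eq_of_gp {Q : RC D} (Z : Lex Q) (c : Gen Q) {g g' : Gb} (hg : g ∈ S.gp (fun r => 0 < fr Q c.c r))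
    (hg' : g' ∈ S.gp (fun r => 0 < fr Q c.c r)) (h : S.θ g = S.θ g') : g = g' := by
  have h1 : g * g'⁻¹ = 1 := S.inj_gp Z c ((S.gp _).mul_mem hg ((S.gp _).inv_mem hg')) (by
    rw [map_mul, map_inv, h, mul_inv_cancel])
  exact mul_inv_eq_one.1 h1

end CvG


end H23.Cv
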