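/-
H23: groups given by Steinberg's relations (R1), (R2) only: a copy of helper22's theory of `CvG` without (R3).
-/
import Cfsg.Agent.Lib.H23.CvBasic
set_option autoImplicit false
set_option linter.unusedVariables false

namespace H23.Cv

open H22.RGD H22.Coord H22.RCCheck H22.RCComb H22.ChevTri H22.ChevRel H22.ChevSys H22.ChevMain
open H22.ChevStd H22.ChevSolv H22.ChevUni H22.St
open Cfsg.Lie (ChevalleyDatum)
open scoped MatrixGroups Matrix

variable {D : ChevalleyDatum} {F : Type*} [Field F]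

namespace CvG

variable {R : Rel D F} {Gb : Type*} [Group Gb] (S : CvG R Gb)

theorem nb_mem_sup (r : ℕ) (c : F) : S.nb r c ∈ S.Xb r ⊔ S.Xb (D.neg r) := by
  rw [nb_def]
  exact Subgroup.mul_mem _ (Subgroup.mul_mem _ (Subgroup.mem_sup_left (S.xb_mem _ _))
    (Subgroup.mem_sup_right (S.xb_mem _ _))) (Subgroup.mem_sup_left (S.xb_mem _ _))

/-- `X̄_{±i}` normalises the group of the positive roots other than `α_i` -/
theorem stab_pos (X : RCX D) (i : Fin D.rank) : S.Xb (D.simple i) ⊔ S.Xb (D.neg (D.simple i)) ≤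
    stabSub (S.gp (fun r => X.rc.half ≤ r ∧ r ≠ D.simple i)) := by
  have hi := X.rc.simple_lt i i.2
  have hco : ∀ s < D.nroots, X.rc.half ≤ s ∧ s ≠ D.simple i →
      ∃ j < D.rank, j ≠ i ∧ 0 < X.rc.co s j := by
    rintro s hs ⟨h1, h2⟩
    rcases X.red2 s hs h1 i i.2 with h0 | ⟨j, hj, hji, hjp⟩
    · exact absurd h0 h2
    · exact ⟨j, hj, hji, hjp⟩
  have hz : ∀ r, r = D.simple i ∨ r = D.neg (D.simple i) → ∀ j < D.rank, j ≠ i → X.rc.co r j = 0 := by
    rintro r (rfl | rfl) j hj hji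
    · rw [X.rc.co_simple i i.2 j hj, if_neg hji]
    · rw [co_neg' X.rc hi hj, X.rc.co_simple i i.2 j hj, if_neg hji, neg_zero]
  have key : ∀ r, r = D.simple i ∨ r = D.neg (D.simple i) → S.Xb r ≤
      stabSub (S.gp (fun r => X.rc.half ≤ r ∧ r ≠ D.simple i)) := by
    intro r hr
    have hrl : r < D.nroots := by rcases hr with rfl | rfl; exacts [hi, neg_lt X.rc hi]
    have hnr : D.neg r = D.simple i ∨ D.neg r = D.neg (D.simple i) := by
      rcases hr with rfl | rfl
      · exact Or.inr rfl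
      · exact Or.inl (H22.RCComb.neg_neg X.rc hi)
    refine S.stab_gp X.rc hrl ?_ ?_ ?_
    · rintro s hs hP rfl
      obtain ⟨j, hj, hji, hjp⟩ := hco s hs hP
      rw [hz s hr j hj hji] at hjp; exact absurd hjp (lt_irrefl _)
    · rintro s hs hP rfl
      obtain ⟨j, hj, hji, hjp⟩ := hco _ hs hP
      rw [hz _ hnr j hj hji] at hjp; exact absurd hjp (lt_irrefl _)
    · intro s hs hP k hk a b ha hb hcok
      obtain ⟨j, hj, hji, hjp⟩ := hco s hs hP
      have e1 : 0 < X.rc.co k j := by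
        rw [hcok j hj, hz r hr j hj hji, mul_zero, zero_add]
        exact mul_pos (by exact_mod_cast hb) hjp
      refine ⟨half_le_of_pos X.rc hk hj e1, ?_⟩
      rintro rfl
      rw [hz _ (Or.inl rfl) j hj hji] at e1; exact absurd e1 (lt_irrefl _)
  exact sup_le (key _ (Or.inl rfl)) (key _ (Or.inr rfl))

theorem stab_neg (X : RCX D) (i : Fin D.rank) : S.Xb (D.simple i) ⊔ S.Xb (D.neg (D.simple i)) ≤
    stabSub (S.gp (fun r => ¬ X.rc.half ≤ r ∧ r ≠ D.neg (D.simple i))) := by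
  have hi := X.rc.simple_lt i i.2
  have hco : ∀ s < D.nroots, ¬ X.rc.half ≤ s ∧ s ≠ D.neg (D.simple i) →
      ∃ j < D.rank, j ≠ i ∧ X.rc.co s j < 0 := by
    rintro s hs ⟨h1, h2⟩
    have h3 : X.rc.half ≤ D.neg s := by
      rw [X.rc.neg_eq s hs]; have := X.rc.nroots_eq; omega
    rcases X.red2 _ (neg_lt X.rc hs) h3 i i.2 with h0 | ⟨j, hj, hji, hjp⟩
    · exact absurd (by rw [← h0, H22.RCComb.neg_neg X.rc hs]) h2
    · exact ⟨j, hj, hji, by rw [co_neg' X.rc hs hj] at hjp; omega⟩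
  have hz : ∀ r, r = D.simple i ∨ r = D.neg (D.simple i) → ∀ j < D.rank, j ≠ i → X.rc.co r j = 0 := by
    rintro r (rfl | rfl) j hj hji
    · rw [X.rc.co_simple i i.2 j hj, if_neg hji]
    · rw [co_neg' X.rc hi hj, X.rc.co_simple i i.2 j hj, if_neg hji, neg_zero]
  have key : ∀ r, r = D.simple i ∨ r = D.neg (D.simple i) → S.Xb r ≤
      stabSub (S.gp (fun r => ¬ X.rc.half ≤ r ∧ r ≠ D.neg (D.simple i))) := by
    intro r hr
    have hrl : r < D.nroots := by rcases hr with rfl | rfl; exacts [hi, neg_lt X.rc hi]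
    have hnr : D.neg r = D.simple i ∨ D.neg r = D.neg (D.simple i) := by
      rcases hr with rfl | rfl
      · exact Or.inr rfl
      · exact Or.inl (H22.RCComb.neg_neg X.rc hi)
    refine S.stab_gp X.rc hrl ?_ ?_ ?_
    · rintro s hs hP rfl
      obtain ⟨j, hj, hji, hjp⟩ := hco s hs hP
      rw [hz s hr j hj hji] at hjp; exact absurd hjp (lt_irrefl _)
    · rintro s hs hP rfl
      obtain ⟨j, hj, hji, hjp⟩ := hco _ hs hP
      rw [hz _ hnr j hj hji] at hjp; exact absurd hjp (lt_irrefl _)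
    · intro s hs hP k hk a b ha hb hcok
      obtain ⟨j, hj, hji, hjp⟩ := hco s hs hP
      have e1 : X.rc.co k j < 0 := by
        rw [hcok j hj, hz r hr j hj hji, mul_zero, zero_add]
        exact mul_neg_of_pos_of_neg (by exact_mod_cast hb) hjp
      refine ⟨fun hh => ?_, ?_⟩
      · have := X.rc.co_nonneg k hk hh j hj; omega
      · rintro rfl
        rw [hz _ (Or.inr rfl) j hj hji] at e1; exact absurd e1 (lt_irrefl _)
  exact sup_le (key _ (Or.inl rfl)) (key _ (Or.inr rfl))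

/-- conjugation of `x̄_s` by `n̄_i(c)`, for roots `s ≠ ±α_i` -/
theorem conj_generic (X : RCX D) (Z : Lex X.rc) (i : Fin D.rank) {c : F} {μ : ℕ → F}
    (hμ : ∀ s < D.nroots, ∀ t : F, ng R (D.simple i) c * xg R s t * (ng R (D.simple i) c)⁻¹ =
      xg R (D.reflectRoot i s) (μ s * t)) {s : ℕ} (hs : s < D.nroots) (h1 : s ≠ D.simple i)
    (h2 : s ≠ D.neg (D.simple i)) (t : F) :
    S.nb (D.simple i) c * S.xb s t * (S.nb (D.simple i) c)⁻¹ = S.xb (D.reflectRoot i s) (μ s * t) := by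
  have hi := X.rc.simple_lt i i.2
  have hrs := X.rc.refl_lt i i.2 s hs
  have hnb := S.nb_mem_sup (D.simple i) c
  have hθ : S.θ (S.nb (D.simple i) c * S.xb s t * (S.nb (D.simple i) c)⁻¹) =
      S.θ (S.xb (D.reflectRoot i s) (μ s * t)) := by
    rw [map_mul, map_mul, map_inv, S.θ_nb X.rc hi, S.θ_x s hs, S.θ_x _ hrs, hμ s hs]
  by_cases hp : X.rc.half ≤ s
  · refine S.eq_of_gp Z (Gen.ofLex Z) ?_ ?_ hθ
    · have h3 := conj_mem_of_stabSub (S.stab_pos X i hnb) (S.mem_gp (P := fun r =>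
        X.rc.half ≤ r ∧ r ≠ D.simple i) hs ⟨hp, h1⟩ t)
      refine S.gp_mono ?_ h3
      intro r hr h; exact Z.pos hr h.1
    · refine S.mem_gp hrs ?_ _
      apply Z.pos hrs
      exact (comb X).refl_pos i ⟨s, hs⟩ hp (fun h => h1 (congrArg Fin.val h))
  · have hneg : ∀ r < D.nroots, ¬ X.rc.half ≤ r → 0 < fr X.rc (Gen.ofLex Z).neg.c r := by
      intro r hr h
      show 0 < fr X.rc (fun k => - Z.c k) r
      rw [fr_neg_fun]
      have h3 : X.rc.half ≤ D.neg r := by
        rw [X.rc.neg_eq r hr]; have := X.rc.nroots_eq; omega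
      have h4 := Z.pos (neg_lt X.rc hr) h3
      rwa [fr_neg X.rc _ hr] at h4
    refine S.eq_of_gp Z (Gen.ofLex Z).neg ?_ ?_ hθ
    · have h3 := conj_mem_of_stabSub (S.stab_neg X i hnb) (S.mem_gp (P := fun r =>
        ¬ X.rc.half ≤ r ∧ r ≠ D.neg (D.simple i)) hs ⟨hp, h2⟩ t)
      refine S.gp_mono ?_ h3
      intro r hr h; exact hneg r hr h.1
    · refine S.mem_gp hrs ?_ _
      apply hneg _ hrs
      intro h3
      -- refl i s positive while s is negative: then refl i (refl i s) = s must be ...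
      have h4 : (comb X).pos ((comb X).refl i ⟨s, hs⟩) := h3
      have h5 : (comb X).refl i ⟨s, hs⟩ ≠ (comb X).simple i := by
        intro h6
        rw [(comb X).refl_eq_simple_iff] at h6
        exact h2 (congrArg Fin.val h6)
      have h6 := (comb X).refl_pos i _ h4 h5
      rw [(comb X).refl_refl] at h6
      exact hp h6

/-- conjugation of `x̄_{±α_i}` by `n̄_i(c)` -/
theorem conj_special (X : RCX D) (Z : Lex X.rc) (i : Fin D.rank) {c : F} {μ : ℕ → F}
    (hμ : ∀ s < D.nroots, ∀ t : F, ng R (D.simple i) c * xg R s t * (ng R (D.simple i) c)⁻¹ =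
      xg R (D.reflectRoot i s) (μ s * t)) {k₀ : ℕ} (hk₀ : k₀ < D.nroots)
    (hk₀' : k₀ = D.simple i ∨ k₀ = D.neg (D.simple i)) {p : Bool}
    (hx : ∃ x, GoodAt D X.rc.half i k₀ p x) (t : F) :
    S.nb (D.simple i) c * S.xb k₀ t * (S.nb (D.simple i) c)⁻¹ = S.xb (D.reflectRoot i k₀) (μ k₀ * t) := by
  obtain ⟨⟨j, r, s, C, m⟩, hj, hr, hs, hsr, hsn, hr1, hr2, hs1, hs2, hfil, hC, hpr, hps⟩ := hx
  simp only at hj hr hs hsr hsn hr1 hr2 hs1 hs2 hfil hC hpr hps
  have hi := X.rc.simple_lt i i.2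
  have hrk := X.rc.refl_lt i i.2 k₀ hk₀
  -- the functional
  obtain ⟨f, hf⟩ : ∃ f : Gen X.rc, ∀ r < D.nroots, ((X.rc.half ≤ D.reflectRoot j r) ↔ p = true) →
      0 < fr X.rc f.c r := by
    cases p with
    | true =>
      refine ⟨(Gen.ofLex Z).refl j hj, fun r hr h => ?_⟩
      have h1 := Z.pos (X.rc.refl_lt j hj r hr) (h.2 rfl)
      rw [← fr_refl X.rc Z.c hj hr] at h1
      exact h1
    | false =>
      refine ⟨((Gen.ofLex Z).refl j hj).neg, fun r hr h => ?_⟩
      show 0 < fr X.rc (fun k => - (Z.c k - X.rc.A j k * Z.c j)) r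
      rw [fr_neg_fun, fr_refl X.rc Z.c hj hr]
      have h3 : ¬ X.rc.half ≤ D.reflectRoot j r := by simpa using h
      have hrj := X.rc.refl_lt j hj r hr
      have h4 : X.rc.half ≤ D.neg (D.reflectRoot j r) := by
        rw [X.rc.neg_eq _ hrj]; have := X.rc.nroots_eq; omega
      have h5 := Z.pos (neg_lt X.rc hrj) h4
      rwa [fr_neg X.rc _ hrj] at h5
  have hir := X.rc.refl_lt i i.2 r hr
  have his := X.rc.refl_lt i i.2 s hs
  have hfr := hf _ hir hpr
  have hfs := hf _ his hps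
  -- all terms
  have hterm : ∀ q ∈ D.commTerms r s, q.1 < D.nroots ∧ 0 < fr X.rc f.c (D.reflectRoot i q.1) := by
    intro q hq
    obtain ⟨g1, g2, g3, g4⟩ := commTerms_co X.rc hr hs hq
    refine ⟨g1, ?_⟩
    rw [fr_lin X.rc f.c (co_refl_lin X.rc i.2 g1 hr hs g4)]
    have e1 := mul_pos (show (0 : ℤ) < (q.2.2.1 : ℤ) by exact_mod_cast g2) hfr
    have e2 := mul_pos (show (0 : ℤ) < (q.2.2.2 : ℤ) by exact_mod_cast g3) hfs
    omega
  have hk₀mem : (k₀, C, m, 1) ∈ D.commTerms r s := by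
    have : (k₀, C, m, 1) ∈ (D.commTerms r s).filter (fun q => q.1 == k₀) := by rw [hfil]; simp
    exact (List.mem_filter.1 this).1
  have hfk := (hterm _ hk₀mem).2
  simp only at hfk
  set g := S.nb (D.simple i) c with hg
  set K : Subgroup Gb := cj g⁻¹ (S.gp (fun r => 0 < fr X.rc f.c r)) with hK
  have hmemK : ∀ y, y ∈ K ↔ g * y * g⁻¹ ∈ S.gp (fun r => 0 < fr X.rc f.c r) := by
    intro y; rw [hK, mem_cj]; simp
  have hgen : ∀ k < D.nroots, k ≠ D.simple i → k ≠ D.neg (D.simple i) →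
      0 < fr X.rc f.c (D.reflectRoot i k) → ∀ v : F, S.xb k v ∈ K := by
    intro k hk h1 h2 h3 v
    rw [hmemK, hg, S.conj_generic X Z i hμ hk h1 h2]
    exact S.mem_gp (X.rc.refl_lt i i.2 k hk) h3 _
  have hrefl : D.reflectRoot i k₀ = D.neg k₀ := by
    have e := (comb X).refl_simple i
    have e' := (comb X).refl_simple_neg i
    rcases hk₀' with rfl | rfl
    · exact congrArg Fin.val e
    · have := congrArg Fin.val e'
      simp only [comb_refl_val, comb_neg_val, comb_simple_val] at this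
      rw [this, H22.RCComb.neg_neg X.rc hi]
  have hmain : ∀ v : F, S.xb k₀ v ∈ K := by
    intro v
    -- choose the parameter
    have hC' : (C : F) * C = 1 := by
      rcases hC with h | h <;> rw [h] <;> simp
    have hw := mem_of_list_prod K (fun q : ℕ × F => S.xb q.1 q.2) (fun q => q.1 == k₀)
      (k₀, (C : F) * (-(-1 : F)) ^ m * (C * v) ^ 1) (D.commWord F r s (-1) (C * v))
      (filter_map_commWord r s k₀ (-1) (C * v) hfil) ?_ ?_
    · have e : (C : F) * (-(-1 : F)) ^ m * (C * v) ^ 1 = v := by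
        rw [_root_.neg_neg, one_pow, mul_one, pow_one, ← mul_assoc, hC', one_mul]
      simp only [e] at hw
      exact hw
    · intro q hq hne
      have hq' := hq
      unfold ChevalleyDatum.commWord at hq'
      simp only [List.mem_map] at hq'
      obtain ⟨q', hq'm, hq'e⟩ := hq'
      have e1 : q.1 = q'.1 := by rw [← hq'e]
      obtain ⟨t1, t2⟩ := hterm _ hq'm
      have hne' : q.1 ≠ k₀ := by simpa using hne
      have hnneg : q.1 ≠ D.neg k₀ := by
        intro h
        rw [← e1, h] at t2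
        have e3 : D.reflectRoot i (D.neg k₀) = k₀ := by
          rw [← hrefl, H22.RCComb.refl_refl X.rc i.2 hk₀]
        rw [e3] at t2
        rw [hrefl, fr_neg X.rc _ hk₀] at hfk
        omega
      have h12 : q.1 ≠ D.simple i ∧ q.1 ≠ D.neg (D.simple i) := by
        rcases hk₀' with rfl | rfl
        · exact ⟨hne', hnneg⟩
        · rw [H22.RCComb.neg_neg X.rc hi] at hnneg; exact ⟨hnneg, hne'⟩
      exact hgen _ (by rw [e1]; exact t1) h12.1 h12.2 (by rw [e1]; exact t2) _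
    · rw [← S.comm r hr s hs hsr hsn]
      have a1 := hgen s hs hs1 hs2 hfs (C * v)
      have a2 := hgen r hr hr1 hr2 hfr (-1)
      exact K.mul_mem (K.mul_mem (K.mul_mem (K.inv_mem a1) (K.inv_mem a2)) a1) a2
  refine S.eq_of_gp Z f ((hmemK _).1 (hmain t)) (S.mem_gp hrk hfk _) ?_
  rw [hg, map_mul, map_mul, map_inv, S.θ_nb X.rc hi, S.θ_x _ hk₀, S.θ_x _ hrk, hμ _ hk₀]

/-- conjugation of root elements by `n̄_i(c)` -/
theorem nb_conj (X : RCX D) (Z : Lex X.rc) (W : StCert D X.rc.half) (i : Fin D.rank) {c : F} {μ : ℕ → F}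
    (hμ : ∀ s < D.nroots, ∀ t : F, ng R (D.simple i) c * xg R s t * (ng R (D.simple i) c)⁻¹ =
      xg R (D.reflectRoot i s) (μ s * t)) {s : ℕ} (hs : s < D.nroots) (t : F) :
    S.nb (D.simple i) c * S.xb s t * (S.nb (D.simple i) c)⁻¹ = S.xb (D.reflectRoot i s) (μ s * t) := by
  by_cases h1 : s = D.simple i
  · exact S.conj_special X Z i hμ hs (Or.inl h1) (by rw [h1]; exact W.pos i i.2) t
  · by_cases h2 : s = D.neg (D.simple i)
    · exact S.conj_special X Z i hμ hs (Or.inr h2) (by rw [h2]; exact W.neg i i.2) t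
    · exact S.conj_generic X Z i hμ hs h1 h2 t

end CvG


end H23.Cv
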