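/-
H23: groups given by Steinberg's relations (R1), (R2) only: a copy of helper22's theory of `CvG` without (R3).
-/
import Cfsg.Agent.Lib.H23.CvConj
set_option autoImplicit false
set_option linter.unusedVariables false

namespace H23.Cv

open H22.RGD H22.Coord H22.RCCheck H22.RCComb H22.ChevTri H22.ChevRel H22.ChevSys H22.ChevMain
open H22.ChevStd H22.ChevSolv H22.ChevUni H22.St
open Cfsg.Lie (ChevalleyDatum)
open scoped MatrixGroups Matrix

variable {D : ChevalleyDatum} {F : Type*} [Field F]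

namespace CvG

variable {R : Rel D F} {Gb : Type*} [Group Gb] (S : CvG R Gb)

theorem xb_neg_eq (Q : RC D) {r : ℕ} (hr : r < D.nroots) {t : F} : S.xb (D.neg r) t =
    S.xb r t⁻¹ * S.nb r (-t⁻¹) * S.xb r t⁻¹ := by
  rw [nb_def]
  have h1 : S.xb r t⁻¹ * (S.xb r (-t⁻¹) * S.xb (D.neg r) (-(-t⁻¹)⁻¹) * S.xb r (-t⁻¹)) * S.xb r t⁻¹ =
      (S.xb r t⁻¹ * S.xb r (-t⁻¹)) * S.xb (D.neg r) (-(-t⁻¹)⁻¹) * (S.xb r (-t⁻¹) * S.xb r t⁻¹) := by
    simp only [mul_assoc]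
  rw [h1, S.add r hr, S.add r hr, add_neg_cancel, neg_add_cancel, S.xb_zero hr, one_mul, mul_one]
  congr 1
  rw [inv_neg, inv_inv, _root_.neg_neg]

theorem xb_inj (Q : RC D) {s : ℕ} (hs : s < D.nroots) {t u : F} (h : S.xb s t = S.xb s u) : t = u := by
  apply xg_inj R Q hs
  rw [← S.θ_x s hs, ← S.θ_x s hs, h]

theorem nb_eq (Q : RC D) {r : ℕ} (hr : r < D.nroots) (t : F) : S.nb r t = S.hb r t * S.nb r 1 := by
  rw [hb_def, mul_assoc, ← S.nb_inv Q hr 1]; simp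

variable (X : RCX D) (Z : Lex X.rc) (W : StCert D X.rc.half)

include W Z in
/-- conjugation by `h̄_i(c)` -/
theorem hb_conj {i : ℕ} (hi : i < D.rank) {c : F} (hc : c ≠ 0) {s : ℕ} (hs : s < D.nroots) (t : F) :
    S.hb (D.simple i) c * S.xb s t * (S.hb (D.simple i) c)⁻¹ = S.xb s (c ^ D.cartan i s * t) := by
  have hil := X.rc.simple_lt i hi
  obtain ⟨μ, _, hμ⟩ := ng_conj R X ⟨i, hi⟩ hc
  obtain ⟨ν, _, hν⟩ := ng_conj R X ⟨i, hi⟩ (c := (-1 : F)) (neg_ne_zero.2 one_ne_zero)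
  have h1 : S.hb (D.simple i) c * S.xb s t * (S.hb (D.simple i) c)⁻¹ =
      S.xb s (μ (D.reflectRoot i s) * (ν s * t)) := by
    rw [hb_def]
    have e : S.nb (D.simple i) c * S.nb (D.simple i) (-1) * S.xb s t *
        (S.nb (D.simple i) c * S.nb (D.simple i) (-1))⁻¹ =
        S.nb (D.simple i) c * (S.nb (D.simple i) (-1) * S.xb s t * (S.nb (D.simple i) (-1))⁻¹) *
          (S.nb (D.simple i) c)⁻¹ := by simp [mul_assoc]
    rw [e, S.nb_conj X Z W ⟨i, hi⟩ hν hs, S.nb_conj X Z W ⟨i, hi⟩ hμ (X.rc.refl_lt i hi s hs),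
      H22.RCComb.refl_refl X.rc hi hs]
  rw [h1]
  have h2 := congrArg S.θ h1
  rw [map_mul, map_mul, map_inv, S.θ_hb X.rc hil, S.θ_x s hs, S.θ_x s hs] at h2
  have h3 := hs_conj R hi hc hs X.rc t
  unfold H22.ChevSys.hs at h3
  rw [h3] at h2
  rw [xg_inj R X.rc hs h2]

/-- the torus -/
def Hb : Subgroup Gb := Subgroup.closure {g | ∃ i < D.rank, ∃ c : F, c ≠ 0 ∧ g = S.hb (D.simple i) c}

theorem hb_mem {i : ℕ} (hi : i < D.rank) {c : F} (hc : c ≠ 0) : S.hb (D.simple i) c ∈ S.Hb :=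
  Subgroup.subset_closure ⟨i, hi, c, hc, rfl⟩

include Z W in
theorem hb_nb {i j : ℕ} (hi : i < D.rank) (hj : j < D.rank) {c t : F} (hc : c ≠ 0) :
    S.hb (D.simple j) c * S.nb (D.simple i) t * (S.hb (D.simple j) c)⁻¹ =
      S.nb (D.simple i) (c ^ D.cartan j (D.simple i) * t) := by
  have hil := X.rc.simple_lt i hi
  rw [nb_def, nb_def]
  have h1 := S.hb_conj X Z W hj hc hil t
  have h2 := S.hb_conj X Z W hj hc (neg_lt X.rc hil) (-t⁻¹)
  rw [cartan_neg X.rc hj hil] at h2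
  have h3 : c ^ (-D.cartan j (D.simple i)) * -t⁻¹ = -(c ^ D.cartan j (D.simple i) * t)⁻¹ := by
    rw [mul_inv, zpow_neg]; ring
  rw [h3] at h2
  rw [← h1, ← h2]; simp [mul_assoc]

include Z W in
theorem nb_hb {i j : ℕ} (hi : i < D.rank) (hj : j < D.rank) {c : F} (hc : c ≠ 0) :
    S.nb (D.simple i) 1 * S.hb (D.simple j) c * (S.nb (D.simple i) 1)⁻¹ =
      (S.hb (D.simple i) (c ^ D.cartan j (D.simple i)))⁻¹ * S.hb (D.simple j) c := by
  have hil := X.rc.simple_lt i hi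
  have h1 := S.hb_nb X Z W hi hj (c := c) (t := 1) hc
  rw [mul_one, S.nb_eq X.rc hil (c ^ _)] at h1
  -- h n h⁻¹ = h' n  ⟹ n h n⁻¹ = h'⁻¹ h
  have h2 : S.hb (D.simple j) c * S.nb (D.simple i) 1 =
      S.hb (D.simple i) (c ^ D.cartan j (D.simple i)) * S.nb (D.simple i) 1 * S.hb (D.simple j) c := by
    rw [← h1]; simp
  have h3 : S.nb (D.simple i) 1 * S.hb (D.simple j) c =
      (S.hb (D.simple i) (c ^ D.cartan j (D.simple i)))⁻¹ * (S.hb (D.simple j) c * S.nb (D.simple i) 1) := by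
    rw [h2]; simp [mul_assoc]
  rw [h3]; simp [mul_assoc]

theorem nb_sq (Q : RC D) {i : ℕ} (hi : i < D.rank) : S.nb (D.simple i) 1 * S.nb (D.simple i) 1 ∈ S.Hb := by
  have hil := Q.simple_lt i hi
  have h1 : S.nb (D.simple i) 1 * S.nb (D.simple i) 1 = (S.hb (D.simple i) (-1))⁻¹ := by
    rw [hb_def, mul_inv_rev, S.nb_inv Q hil, _root_.neg_neg]
  rw [h1]
  exact S.Hb.inv_mem (S.hb_mem hi (neg_ne_zero.2 one_ne_zero))

include Z W in
theorem nb_stab {i : ℕ} (hi : i < D.rank) : S.nb (D.simple i) 1 ∈ stabSub S.Hb := by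
  have key : cj (S.nb (D.simple i) 1) S.Hb ≤ S.Hb := by
    unfold Hb
    rw [cj, MonoidHom.map_closure, Subgroup.closure_le]
    rintro _ ⟨_, ⟨j, hj, c, hc, rfl⟩, rfl⟩
    show S.nb (D.simple i) 1 * S.hb (D.simple j) c * (S.nb (D.simple i) 1)⁻¹ ∈ S.Hb
    rw [S.nb_hb X Z W hi hj hc]
    exact S.Hb.mul_mem (S.Hb.inv_mem (S.hb_mem hi (zpow_ne_zero _ hc))) (S.hb_mem hj hc)
  rw [mem_stabSub]
  apply le_antisymm key
  have h2 : cj (S.nb (D.simple i) 1 * S.nb (D.simple i) 1) S.Hb = S.Hb :=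
    cj_eq_self_of_mem (S.nb_sq X.rc hi)
  rw [cj_mul] at h2
  calc S.Hb = cj (S.nb (D.simple i) 1) (cj (S.nb (D.simple i) 1) S.Hb) := h2.symm
    _ ≤ cj (S.nb (D.simple i) 1) S.Hb := cj_mono key

include Z W in
/-- elements of the torus act by characters -/
theorem Hb_char {g : Gb} (hg : g ∈ S.Hb) : ∃ χ : ℕ → F, (∀ s, χ s ≠ 0) ∧
    ∀ s < D.nroots, ∀ t : F, g * S.xb s t * g⁻¹ = S.xb s (χ s * t) := by
  unfold Hb at hg
  induction hg using Subgroup.closure_induction with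
  | mem x hx =>
    obtain ⟨i, hi, c, hc, rfl⟩ := hx
    exact ⟨fun s => c ^ D.cartan i s, fun s => zpow_ne_zero _ hc,
      fun s hs' t => S.hb_conj X Z W hi hc hs' t⟩
  | one => exact ⟨fun _ => 1, fun _ => one_ne_zero, fun s _ t => by simp⟩
  | mul x y _ _ hx hy =>
    obtain ⟨χ, h1, h3⟩ := hx
    obtain ⟨ψ, k1, k3⟩ := hy
    refine ⟨fun s => χ s * ψ s, fun s => mul_ne_zero (h1 s) (k1 s), fun s hs' t => ?_⟩
    calc x * y * S.xb s t * (x * y)⁻¹ = x * (y * S.xb s t * y⁻¹) * x⁻¹ := by simp [mul_assoc]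
      _ = S.xb s (χ s * (ψ s * t)) := by rw [k3 s hs', h3 s hs']
      _ = _ := by rw [mul_assoc]
  | inv x _ hx =>
    obtain ⟨χ, h1, h3⟩ := hx
    refine ⟨fun s => (χ s)⁻¹, fun s => inv_ne_zero (h1 s), fun s hs' t => ?_⟩
    have h4 := h3 s hs' ((χ s)⁻¹ * t)
    rw [← mul_assoc, mul_inv_cancel₀ (h1 s), one_mul] at h4
    rw [← h4]; simp [mul_assoc]

include Z W in
theorem Hb_le_stab {s : ℕ} (hs : s < D.nroots) : S.Hb ≤ stabSub (S.Xb s) := by
  apply le_stabSub_of_conj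
  intro a ha x hx
  obtain ⟨t, rfl⟩ := (S.mem_Xb hs).1 hx
  obtain ⟨χ, _, h⟩ := S.Hb_char X Z W ha
  rw [h s hs]; exact S.xb_mem _ _

include Z W in
theorem cj_nb (i : Fin D.rank) (r : Fin D.nroots) :
    cj (S.nb (D.simple i) 1) (S.Xb r) = S.Xb ((comb X).refl i r : Fin D.nroots) := by
  obtain ⟨μ, h1, h2⟩ := ng_conj R X i (c := (1 : F)) one_ne_zero
  have hrl := ((comb X).refl i r).2
  apply le_antisymm
  · rintro _ ⟨x, hx, rfl⟩
    rw [SetLike.mem_coe, S.mem_Xb r.2] at hx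
    obtain ⟨t, rfl⟩ := hx
    show S.nb (D.simple i) 1 * S.xb r t * (S.nb (D.simple i) 1)⁻¹ ∈ _
    rw [S.nb_conj X Z W i h2 r.2]
    exact S.xb_mem _ _
  · intro x hx
    rw [S.mem_Xb hrl] at hx
    obtain ⟨t, rfl⟩ := hx
    have h3 := S.nb_conj X Z W i h2 r.2 ((μ r)⁻¹ * t)
    rw [← mul_assoc, mul_inv_cancel₀ (h1 r r.2), one_mul] at h3
    have h4 : S.xb ((comb X).refl i r : Fin D.nroots) t = S.xb (D.reflectRoot i r) t := rfl
    rw [h4, ← h3]
    exact conj_mem_cj (S.xb_mem _ _)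

theorem gp_eq_iSup (P : ℕ → Prop) (P' : Fin D.nroots → Prop) (h : ∀ r : Fin D.nroots, P' r ↔ P r) :
    (⨆ s : {s // P' s}, S.Xb (s : Fin D.nroots)) = S.gp P := by
  apply le_antisymm
  · refine iSup_le fun s => ?_
    intro x hx
    obtain ⟨t, rfl⟩ := (S.mem_Xb s.1.2).1 hx
    exact S.mem_gp s.1.2 ((h s).1 s.2) t
  · unfold gp
    rw [Subgroup.closure_le]
    rintro _ ⟨r, t, hr, hP, rfl⟩
    exact (le_iSup (fun s : {s // P' s} => S.Xb (s : Fin D.nroots)) ⟨⟨r, hr⟩, (h ⟨r, hr⟩).2 hP⟩)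
      (S.xb_mem r t)

theorem map_Xb {r : ℕ} (hr : r < D.nroots) : (S.Xb r).map S.θ = D.rootSubgroup F r := by
  ext g
  rw [Subgroup.mem_map, mem_rootSubgroup R]
  constructor
  · rintro ⟨x, hx, rfl⟩
    obtain ⟨t, rfl⟩ := (S.mem_Xb hr).1 hx
    exact ⟨t, S.θ_x r hr t⟩
  · rintro ⟨t, rfl⟩
    exact ⟨S.xb r t, S.xb_mem r t, S.θ_x r hr t⟩

theorem map_iSup_Xb {ι : Sort*} (f : ι → Fin D.nroots) :
    (⨆ i, S.Xb (f i)).map S.θ = ⨆ i, D.rootSubgroup F (f i) := by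
  rw [Subgroup.map_iSup]
  exact iSup_congr fun i => S.map_Xb (f i).2

theorem map_Hb (Q : RC D) : S.Hb.map S.θ ≤ Hs R := by
  unfold Hb
  rw [MonoidHom.map_closure, Subgroup.closure_le]
  rintro _ ⟨_, ⟨i, hi, c, hc, rfl⟩, rfl⟩
  rw [SetLike.mem_coe, S.θ_hb Q (Q.simple_lt i hi)]
  exact hs_mem R hi hc

/-- the root group system -/
def stSys : Sys Gb (comb X) where
  X := fun r => S.Xb r
  H := S.Hb
  n := fun i => S.nb (D.simple i) 1
  H_le := fun r => S.Hb_le_stab X Z W r.2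
  cj_n := fun i r => S.cj_nb X Z W i r
  n_stab_H := fun i => S.nb_stab X Z W i.2
  n_sq := fun i => S.nb_sq X.rc i.2
  rank_one := by
    intro i x hx hx1
    have hi := X.rc.simple_lt i i.2
    obtain ⟨t, rfl⟩ := (S.mem_Xb (neg_lt X.rc hi)).1 hx
    have ht : t ≠ 0 := by rintro rfl; exact hx1 (S.xb_zero (neg_lt X.rc hi))
    have ht' : -t⁻¹ ≠ 0 := neg_ne_zero.2 (inv_ne_zero ht)
    refine ⟨S.xb (D.simple i) t⁻¹, S.xb_mem _ _,
      (S.nb (D.simple i) 1)⁻¹ * S.hb (D.simple i) (-t⁻¹) * S.nb (D.simple i) 1, ?_,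
      S.xb (D.simple i) t⁻¹, S.xb_mem _ _, ?_⟩
    · exact inv_conj_mem_of_stabSub (S.nb_stab X Z W i.2) (S.hb_mem i.2 ht')
    · show S.xb (D.neg (D.simple i)) t = _
      rw [S.xb_neg_eq X.rc hi, S.nb_eq X.rc hi (-t⁻¹)]; simp [mul_assoc]
  simple_le := fun i => by
    rw [S.gp_eq_iSup (fun r => X.rc.half ≤ r ∧ r ≠ D.simple i)]
    · exact le_sup_left.trans (S.stab_pos X i)
    · intro r
      constructor
      · rintro ⟨h1, h2⟩; exact ⟨h1, fun h => h2 (Fin.ext h)⟩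
      · rintro ⟨h1, h2⟩; exact ⟨h1, fun h => h2 (congrArg Fin.val h)⟩
  nontriv := fun r h => by
    have h1 := rootSubgroup_ne_bot R X.rc r.2
    apply h1
    rw [← S.map_Xb r.2, h, Subgroup.map_bot]
  X_inj := fun r s h => by
    apply rootSubgroup_inj R X
    simp only
    rw [← S.map_Xb r.2, ← S.map_Xb s.2]
    exact congrArg _ h
  disj_UH_V := by
    rw [eq_bot_iff]
    rintro g ⟨h1, h2⟩
    rw [Subgroup.mem_bot]
    have hθ : S.θ g = 1 := by
      refine (chevSys R X).eq_one_of_mem_B_V ?_ ?_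
      · have h3 : S.θ g ∈ Subgroup.map S.θ ((⨆ s : {s // (comb X).pos s}, S.Xb (s : Fin D.nroots)) ⊔ S.Hb) :=
          ⟨g, h1, rfl⟩
        rw [Subgroup.map_sup, S.map_iSup_Xb] at h3
        have h4 : Subgroup.map S.θ S.Hb ≤ (chevSys R X).H := by
          refine (S.map_Hb X.rc).trans ?_
          rw [← diagonalSubgroup_eq R X]; exact le_rfl
        exact (sup_le_sup_left h4 _) h3
      · have h3 : S.θ g ∈ Subgroup.map S.θ (⨆ s : {s // ¬ (comb X).pos s}, S.Xb (s : Fin D.nroots)) :=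
          ⟨g, h2, rfl⟩
        rw [S.map_iSup_Xb] at h3
        exact h3
    refine S.inj_gp Z (Gen.ofLex Z).neg ?_ hθ
    have h3 : g ∈ (⨆ s : {s // ¬ (comb X).pos s}, S.Xb (s : Fin D.nroots)) := h2
    rw [S.gp_eq_iSup (fun r => ¬ X.rc.half ≤ r) (fun r => ¬ (comb X).pos r) (fun r => Iff.rfl)] at h3
    refine S.gp_mono ?_ h3
    intro r hr h
    show 0 < fr X.rc (fun k => - Z.c k) r
    rw [fr_neg_fun]
    have h3 : X.rc.half ≤ D.neg r := by
      rw [X.rc.neg_eq r hr]; have := X.rc.nroots_eq; omega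
    have h4 := Z.pos (neg_lt X.rc hr) h3
    rwa [fr_neg X.rc _ hr] at h4
  disj_U_H := by
    rw [eq_bot_iff]
    rintro g ⟨h1, h2⟩
    rw [Subgroup.mem_bot]
    have hθ : S.θ g = 1 := by
      refine (chevSys R X).eq_one_of_mem_U_H ?_ ?_
      · have h3 : S.θ g ∈ Subgroup.map S.θ (⨆ s : {s // (comb X).pos s}, S.Xb (s : Fin D.nroots)) :=
          ⟨g, h1, rfl⟩
        rw [S.map_iSup_Xb] at h3
        exact h3
      · rw [chevSys_H, diagonalSubgroup_eq R X]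
        exact S.map_Hb X.rc ⟨g, h2, rfl⟩
    refine S.inj_gp Z (Gen.ofLex Z) ?_ hθ
    have h3 : g ∈ (⨆ s : {s // (comb X).pos s}, S.Xb (s : Fin D.nroots)) := h1
    rw [S.gp_eq_iSup (fun r => X.rc.half ≤ r) (fun r => (comb X).pos r) (fun r => Iff.rfl)] at h3
    refine S.gp_mono ?_ h3
    intro r hr h
    exact Z.pos hr h

theorem stSys_Γ : (S.stSys X Z W).Γ = ⊤ := by
  rw [eq_top_iff, ← S.gen, Subgroup.closure_le]
  rintro _ ⟨r, t, hr, rfl⟩
  exact (S.stSys X Z W).X_le_Γ (longest X) ⟨r, hr⟩ (S.xb_mem r t)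

theorem rep_map {g : Gb} {w : Equiv.Perm (Fin D.nroots)} (h : (S.stSys X Z W).Rep g w) :
    (chevSys R X).Rep (S.θ g) w := by
  refine ⟨?_, h.2.1, fun r => ?_⟩
  · have h1 : (S.stSys X Z W).N.map S.θ ≤ (chevSys R X).N := by
      have e : (S.stSys X Z W).N = S.Hb ⊔ Subgroup.closure (Set.range fun i : Fin D.rank =>
        S.nb (D.simple i) 1) := rfl
      rw [e, Subgroup.map_sup, MonoidHom.map_closure]
      refine sup_le ?_ ?_
      · refine (S.map_Hb X.rc).trans ?_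
        rw [← diagonalSubgroup_eq R X]; exact (chevSys R X).H_le_N
      · rw [Subgroup.closure_le]
        rintro _ ⟨_, ⟨i, rfl⟩, rfl⟩
        rw [SetLike.mem_coe, S.θ_nb X.rc (X.rc.simple_lt i i.2)]
        exact (chevSys R X).n_mem_N i
    exact h1 ⟨g, h.1, rfl⟩
  · have h1 := h.2.2 r
    have h2 : cj g (S.Xb r) = S.Xb (w r) := h1
    show cj (S.θ g) (D.rootSubgroup F r) = D.rootSubgroup F (w r)
    rw [← S.map_Xb r.2, ← S.map_Xb (w r).2, ← h2, map_cj]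

include Z W in
/-- The kernel of `θ` lies in the torus (S1097). -/
theorem ker_le : S.θ.ker ≤ S.Hb := by
  intro k hk
  rw [MonoidHom.mem_ker] at hk
  have hkΓ : k ∈ (S.stSys X Z W).Γ := by rw [S.stSys_Γ]; exact Subgroup.mem_top _
  obtain ⟨b, hb, g, w, hg, u, hu, rfl⟩ := (S.stSys X Z W).normal_form hkΓ
  have hmapB : ∀ b ∈ (S.stSys X Z W).B, S.θ b ∈ (chevSys R X).B := by
    intro b hb
    have h3 : S.θ b ∈ Subgroup.map S.θ ((⨆ s : {s // (comb X).pos s}, S.Xb (s : Fin D.nroots)) ⊔ S.Hb) :=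
      ⟨b, hb, rfl⟩
    rw [Subgroup.map_sup, S.map_iSup_Xb] at h3
    have h4 : Subgroup.map S.θ S.Hb ≤ (chevSys R X).H := by
      refine (S.map_Hb X.rc).trans ?_
      rw [← diagonalSubgroup_eq R X]; exact le_rfl
    exact (sup_le_sup_left h4 _) h3
  have hmapU : ∀ b ∈ (S.stSys X Z W).U, S.θ b ∈ (chevSys R X).U := by
    intro b hb
    have h3 : S.θ b ∈ Subgroup.map S.θ (⨆ s : {s // (comb X).pos s}, S.Xb (s : Fin D.nroots)) :=
      ⟨b, hb, rfl⟩
    rw [S.map_iSup_Xb] at h3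
    exact h3
  have hg' := S.rep_map X Z W hg
  have h1 : S.θ b * S.θ g * S.θ u = 1 * 1 * 1 := by
    rw [← map_mul, ← map_mul, hk]; simp
  have h2 : (chevSys R X).Rep 1 1 := (chevSys R X).rep_H (chevSys R X).H.one_mem
  have hw : w = 1 := (chevSys R X).normal_form_unique_w hg' h2 (hmapB b hb) (Subgroup.one_mem _)
    (hmapU u ((S.stSys X Z W).Um_le_U _ hu)) (Subgroup.one_mem _) h1
  subst hw
  have hgH : g ∈ (S.stSys X Z W).H := (S.stSys X Z W).mem_H_of_rep_one hg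
  rw [(S.stSys X Z W).Um_one, Subgroup.mem_bot] at hu
  subst hu
  rw [mul_one] at hk ⊢
  have hbg : b * g ∈ (S.stSys X Z W).B :=
    (S.stSys X Z W).B.mul_mem hb ((S.stSys X Z W).H_le_B hgH)
  obtain ⟨v, hv, h, hh, e⟩ := (S.stSys X Z W).mem_B.1 hbg
  rw [e] at hk ⊢
  rw [map_mul] at hk
  have hvθ : S.θ v = 1 := by
    refine (chevSys R X).eq_one_of_mem_U_H (hmapU v hv) ?_
    rw [eq_inv_of_mul_eq_one_left hk]
    apply (chevSys R X).H.inv_mem
    rw [chevSys_H, diagonalSubgroup_eq R X]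
    exact S.map_Hb X.rc ⟨h, hh, rfl⟩
  have hv1 : v = 1 := by
    refine S.inj_gp Z (Gen.ofLex Z) ?_ hvθ
    have h3 : v ∈ (⨆ s : {s // (comb X).pos s}, S.Xb (s : Fin D.nroots)) := hv
    rw [S.gp_eq_iSup (fun r => X.rc.half ≤ r) (fun r => (comb X).pos r) (fun r => Iff.rfl)] at h3
    refine S.gp_mono ?_ h3
    intro r hr h
    exact Z.pos hr h
  rw [hv1, one_mul]; exact hh

theorem range_θ (Q : RC D) : S.θ.range = D.group F := by
  rw [MonoidHom.range_eq_map, ← S.gen, MonoidHom.map_closure, group_eq_closure]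
  congr 1
  ext g
  constructor
  · rintro ⟨_, ⟨r, t, hr, rfl⟩, rfl⟩
    exact ⟨r, t, hr, by rw [S.θ_x r hr]; rfl⟩
  · rintro ⟨r, t, hr, h⟩
    exact ⟨S.xb r t, ⟨r, t, hr, rfl⟩, by rw [S.θ_x r hr, xg_eq R h]⟩

include X Z W in
/-- The kernel of `θ` is the centre (S1077). -/
theorem ker_eq_center : S.θ.ker = Subgroup.center Gb := by
  apply le_antisymm
  · intro k hk
    have hkH := S.ker_le X Z W hk
    rw [MonoidHom.mem_ker] at hk
    obtain ⟨χ, _, hχ⟩ := S.Hb_char X Z W hkH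
    have h1 : ∀ s < D.nroots, ∀ t : F, k * S.xb s t * k⁻¹ = S.xb s t := by
      intro s hs t
      rw [hχ s hs]
      have h2 := congrArg S.θ (hχ s hs t)
      rw [map_mul, map_mul, map_inv, hk, S.θ_x s hs, S.θ_x s hs] at h2
      simp only [one_mul, inv_one, mul_one] at h2
      rw [← xg_inj R X.rc hs h2]
    rw [Subgroup.mem_center_iff]
    intro g
    have hg : g ∈ Subgroup.closure {g | ∃ (r : ℕ) (t : F), r < D.nroots ∧ g = S.xb r t} := by
      rw [S.gen]; exact Subgroup.mem_top _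
    induction hg using Subgroup.closure_induction with
    | mem x hx =>
      obtain ⟨r, t, hr, rfl⟩ := hx
      exact (mul_inv_eq_iff_eq_mul.1 (h1 r hr t)).symm
    | one => simp
    | mul x y _ _ hx hy => rw [mul_assoc, hy, ← mul_assoc, hx, mul_assoc]
    | inv x _ hx =>
      have : Commute x k := hx
      exact this.inv_left
  · intro z hz
    rw [MonoidHom.mem_ker]
    apply center_trivial R X
    · rw [← S.range_θ X.rc]; exact ⟨z, rfl⟩
    · intro g hg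
      rw [← S.range_θ X.rc] at hg
      obtain ⟨y, rfl⟩ := hg
      rw [← map_mul, ← map_mul, Subgroup.mem_center_iff.1 hz y]

end CvG


end H23.Cv
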