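/-
H23: the graph symmetries of the tables of types E6 (order 2) and D4 (order 3, both rotations).
-/
import Cfsg.Agent.Lib.H23.ChevSym
set_option autoImplicit false
set_option maxRecDepth 100000

namespace H23.ChevSym

open Cfsg.Lie H23.ChevCore

def symE6 : SCode := {
 rho := [0, 1, 2, 5, 16, 3, 6, 17, 8, 19, 22, 11, 26, 30, 33, 35, 4, 7, 18, 9, 20, 23, 10, 21, 24, 25, 12, 27, 31, 34, 13, 28, 32, 14, 29, 15, 56, 42, 57, 39, 43, 58, 37, 40, 44, 59, 46, 47, 50, 61, 48, 51, 62, 53, 64, 67, 36, 38, 41, 45, 60, 49, 52, 63, 54, 65, 68, 55, 66, 69, 70, 71],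
 rinv := [0, 1, 2, 5, 16, 3, 6, 17, 8, 19, 22, 11, 26, 30, 33, 35, 4, 7, 18, 9, 20, 23, 10, 21, 24, 25, 12, 27, 31, 34, 13, 28, 32, 14, 29, 15, 56, 42, 57, 39, 43, 58, 37, 40, 44, 59, 46, 47, 50, 61, 48, 51, 62, 53, 64, 67, 36, 38, 41, 45, 60, 49, 52, 63, 54, 65, 68, 55, 66, 69, 70, 71],
 ep := [1, 1, 1, 1, -1, 1, 1, -1, 1, -1, -1, 1, -1, 1, -1, 1, -1, -1, 1, -1, 1, 1, -1, 1, 1, 1, -1, 1, -1, 1, 1, -1, 1, -1, 1, 1, 1, 1, -1, 1, -1, 1, 1, -1, 1, -1, 1, 1, 1, -1, 1, 1, -1, 1, -1, -1, 1, -1, 1, -1, 1, -1, -1, 1, -1, 1, 1, -1, 1, 1, 1, 1],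
 pi := [5, 1, 4, 3, 2, 0],
 pinv := [5, 1, 4, 3, 2, 0] }

theorem symE6_easy : symE6.easy chevE6 = true := by decide +kernel
theorem symE6_rows : symE6.rowsS chevE6 = true := by decide +kernel

/-- the symmetry -/
noncomputable def symE6S : Sym chevE6 := ofCheck ChevCertE6.coreE6 symE6_easy symE6_rows

def symD4a : SCode := {
 rho := [0, 1, 6, 2, 7, 10, 3, 8, 4, 9, 11, 5, 18, 12, 14, 19, 15, 20, 13, 16, 21, 17, 22, 23],
 rinv := [0, 1, 3, 6, 8, 11, 2, 4, 7, 9, 5, 10, 13, 18, 14, 16, 19, 21, 12, 15, 17, 20, 22, 23],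
 ep := [1, 1, -1, 1, -1, 1, -1, 1, -1, 1, 1, 1, 1, 1, 1, -1, 1, -1, 1, -1, 1, -1, 1, 1],
 pi := [2, 1, 3, 0],
 pinv := [3, 1, 0, 2] }

theorem symD4a_easy : symD4a.easy chevD4 = true := by decide +kernel
theorem symD4a_rows : symD4a.rowsS chevD4 = true := by decide +kernel

/-- the symmetry -/
noncomputable def symD4aS : Sym chevD4 := ofCheck ChevCertD4.coreD4 symD4a_easy symD4a_rows

def symD4b : SCode := {
 rho := [0, 1, 3, 6, 8, 11, 2, 4, 7, 9, 5, 10, 13, 18, 14, 16, 19, 21, 12, 15, 17, 20, 22, 23],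
 rinv := [0, 1, 6, 2, 7, 10, 3, 8, 4, 9, 11, 5, 18, 12, 14, 19, 15, 20, 13, 16, 21, 17, 22, 23],
 ep := [1, 1, 1, -1, -1, 1, -1, -1, 1, 1, 1, 1, 1, 1, 1, 1, -1, -1, 1, -1, -1, 1, 1, 1],
 pi := [3, 1, 0, 2],
 pinv := [2, 1, 3, 0] }

theorem symD4b_easy : symD4b.easy chevD4 = true := by decide +kernel
theorem symD4b_rows : symD4b.rowsS chevD4 = true := by decide +kernel

/-- the symmetry -/
noncomputable def symD4bS : Sym chevD4 := ofCheck ChevCertD4.coreD4 symD4b_easy symD4b_rows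

/-- compatibility with the numbering of the fundamental roots -/
noncomputable def simpOK (c : SCode) (D : ChevalleyDatum) : Bool :=
  H23.ChevNSCheck.allB (fun i => Nat.beq (c.rh (D.simple i)) (D.simple (c.p i)) && (c.e (D.simple i) == 1)) D.rank

theorem simp_E6 : simpOK symE6 chevE6 = true := by decide +kernel
theorem simp_D4a : simpOK symD4a chevD4 = true := by decide +kernel
theorem simp_D4b : simpOK symD4b chevD4 = true := by decide +kernel

/-- S1081 for a certified symmetry -/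
theorem s1081 {D : ChevalleyDatum} (C : Core D) {c : SCode} (h1 : c.easy D = true) (h2 : c.rowsS D = true)
    (h3 : simpOK c D = true) {F : Type*} [Field F] :
    ∃ α : ↥(D.group F) ≃* ↥(D.group F), ∀ (g : ↥(D.group F)) (i : ℕ) (t : F), i < D.rank →
      (((g : GL D.Idx F) : Matrix D.Idx D.Idx F) = D.x F (D.simple i) t →
        ((α g : GL D.Idx F) : Matrix D.Idx D.Idx F) = D.x F (D.simple (c.pi.getD i 0)) t) ∧
      (((g : GL D.Idx F) : Matrix D.Idx D.Idx F) = D.x F (D.neg (D.simple i)) t →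
        ((α g : GL D.Idx F) : Matrix D.Idx D.Idx F) = D.x F (D.neg (D.simple (c.pi.getD i 0))) t) := by
  obtain ⟨α, -, hα⟩ := (ofCheck C h1 h2).graphAut C F
  refine ⟨α, fun g i t hi => ?_⟩
  have hs := C.simple_lt i hi
  unfold simpOK at h3
  simp only [H23.ChevNSCheck.allB_iff, Bool.and_eq_true, Nat.beq_eq, beq_iff_eq] at h3
  obtain ⟨h4, h5⟩ := h3 i hi
  have e1 : (ofCheck C h1 h2).rho (D.simple i) = D.simple (c.pi.getD i 0) := h4
  have e2 : (ofCheck C h1 h2).ep (D.simple i) = 1 := h5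
  constructor
  · intro h
    have := hα g _ t hs h
    rw [e1, e2] at this
    simpa using this
  · intro h
    have := hα g _ t (C.neg_lt _ hs) h
    rw [(ofCheck C h1 h2).rho_neg _ hs, (ofCheck C h1 h2).ep_neg _ hs, e1, e2] at this
    simpa using this

end H23.ChevSym
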