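import Cfsg.Agent.Lib.H4.CA0

/-! S4369, piece (H): a 2-element is not bad (Sylow 2-subgroups nonabelian with central centers) -/

set_option autoImplicit false

namespace H23.CA
open H4.CA Subgroup

universe u

theorem exists_norm {G : Type u} [Group G] [Finite G] {S T : Subgroup G} (hS : IsPGroup 2 S) (hTS : T ≤ S) (hne : T ≠ S) :
    ∃ y ∈ S, y ∉ T ∧ (∀ t, t ∈ T ↔ y * t * y⁻¹ ∈ T) ∧ y ^ 2 ∈ T := by
  haveI : Fact (Nat.Prime 2) := ⟨Nat.prime_two⟩
  haveI : Group.IsNilpotent S := hS.isNilpotent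
  have hlt : T.subgroupOf S < ⊤ := by
    refine lt_top_iff_ne_top.2 fun h => hne (le_antisymm hTS ?_)
    exact Subgroup.subgroupOf_eq_top.1 h
  obtain ⟨y, hy, hyT⟩ := SetLike.exists_of_lt (Group.normalizerCondition_of_isNilpotent _ hlt)
  have hyT' : (y : G) ∉ T := fun h => hyT (Subgroup.mem_subgroupOf.2 h)
  obtain ⟨m, hm⟩ := hS y
  classical
  have hex : ∃ i, (y : G) ^ 2 ^ i ∈ T := ⟨m, by
    have : (y : G) ^ 2 ^ m = 1 := by
      rw [← Subgroup.coe_pow, hm, Subgroup.coe_one]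
    rw [this]; exact T.one_mem⟩
  obtain ⟨j, hj⟩ : ∃ j, Nat.find hex = j + 1 := by
    refine Nat.exists_eq_succ_of_ne_zero fun h0 => ?_
    have := Nat.find_spec hex
    rw [h0, pow_zero, pow_one] at this
    exact hyT' this
  have h1 : (y : G) ^ 2 ^ j ∉ T := Nat.find_min hex (by omega)
  have h2 : (y : G) ^ 2 ^ (j + 1) ∈ T := by
    rw [← hj]; exact Nat.find_spec hex
  have hyn : y ^ 2 ^ j ∈ Subgroup.normalizer ((T.subgroupOf S : Subgroup S) : Set S) := Subgroup.pow_mem _ hy _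
  refine ⟨(y : G) ^ 2 ^ j, S.pow_mem y.2 _, h1, ?_, ?_⟩
  · intro t
    rw [Subgroup.mem_normalizer_iff] at hyn
    constructor
    · intro ht
      have := (hyn ⟨t, hTS ht⟩).1 (Subgroup.mem_subgroupOf.2 ht)
      exact Subgroup.mem_subgroupOf.1 this
    · intro ht
      have htS : t ∈ S := by
        have h3 : (y : G) ^ 2 ^ j ∈ S := S.pow_mem y.2 _
        have h4 := S.mul_mem (S.mul_mem (S.inv_mem h3) (hTS ht)) h3
        have h5 : ((y : G) ^ 2 ^ j)⁻¹ * ((y : G) ^ 2 ^ j * t * ((y : G) ^ 2 ^ j)⁻¹) * (y : G) ^ 2 ^ j = t := by group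
        rwa [h5] at h4
      exact Subgroup.mem_subgroupOf.1 ((hyn ⟨t, htS⟩).2 (Subgroup.mem_subgroupOf.2 ht))
  · rw [← pow_mul, ← pow_succ]; exact h2

/-- a 2-subgroup of `C(s)` lies in a 2-subgroup `T` of `C(s)` and in a Sylow 2-subgroup `S` of `G` with `S ∩ C(s) = T` -/
theorem exists_ST {G : Type u} [Group G] [Finite G] (s : G) (Q : Subgroup G) (hQ : IsPGroup 2 Q)
    (hQs : ∀ q ∈ Q, Commute s q) :
    ∃ (S : Sylow 2 G) (T : Subgroup G), Q ≤ T ∧ T ≤ S ∧ (∀ t ∈ T, Commute s t) ∧ ∀ y ∈ S, Commute s y → y ∈ T := by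
  haveI : Fact (Nat.Prime 2) := ⟨Nat.prime_two⟩
  let C : Subgroup G := centralizer ({s} : Set G)
  have hC : ∀ y, y ∈ C ↔ Commute s y := fun y => by
    rw [Subgroup.mem_centralizer_singleton_iff]
    exact ⟨fun h => h.symm, fun h => h.symm⟩
  have hQC : Q ≤ C := fun q hq => (hC q).2 (hQs q hq)
  obtain ⟨P, hP⟩ := (hQ.comap_of_injective C.subtype C.subtype_injective : IsPGroup 2 (Q.subgroupOf C)).exists_le_sylow
  let T : Subgroup G := (P : Subgroup C).map C.subtype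
  have hT : IsPGroup 2 T := P.isPGroup'.map C.subtype
  obtain ⟨S, hS⟩ := hT.exists_le_sylow
  refine ⟨S, T, ?_, hS, ?_, ?_⟩
  · intro q hq
    exact ⟨⟨q, hQC hq⟩, hP (Subgroup.mem_subgroupOf.2 hq), rfl⟩
  · rintro _ ⟨t, _, rfl⟩
    exact (hC _).1 t.2
  · intro y hy hsy
    have h1 : IsPGroup 2 ((S : Subgroup G).subgroupOf C) := S.isPGroup'.comap_of_injective C.subtype C.subtype_injective
    have h2 : (P : Subgroup C) ≤ (S : Subgroup G).subgroupOf C := by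
      intro p hp
      exact Subgroup.mem_subgroupOf.2 (hS ⟨p, hp, rfl⟩)
    have h3 := P.is_maximal' h1 h2
    have h4 : (⟨y, (hC y).2 hsy⟩ : C) ∈ (S : Subgroup G).subgroupOf C := Subgroup.mem_subgroupOf.2 hy
    rw [h3] at h4
    exact ⟨_, h4, rfl⟩

section
variable {G : Type u} [Group G] [Finite G]

theorem ab_of_bad (h : Frame G) (zs : ∀ S : Sylow 2 G, ∀ z ∈ S, (∀ s ∈ S, Commute z s) → z ∈ center G) (s : G)
    (h2 : ∃ k : ℕ, s ^ 2 ^ k = 1) (hs : Bad s) (S : Sylow 2 G) (T : Subgroup G) (hTS : T ≤ S) (hsT : s ∈ T)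
    (hT1 : ∀ t ∈ T, Commute s t) (hT2 : ∀ y ∈ S, Commute s y → y ∈ T) :
    (∀ a ∈ T, ∀ b ∈ T, Commute a b) ∧ ∃ y ∈ S, y ∉ T ∧ (∀ t, t ∈ T ↔ y * t * y⁻¹ ∈ T) ∧ y ^ 2 ∈ T := by
  have hne : T ≠ (S : Subgroup G) := by
    intro h
    refine hs.1 (zs S s (hTS hsT) fun t ht => hT1 t ?_)
    rw [h]; exact ht
  obtain ⟨y, hyS, hyT, hyn, hy2⟩ := exists_norm S.isPGroup' hTS hne
  refine ⟨?_, y, hyS, hyT, hyn, hy2⟩
  by_contra hcon
  push Not at hcon
  obtain ⟨a, ha, b, hb, hab⟩ := hcon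
  have hTsolv : Group.IsSolvable T := by
    haveI : Fact (Nat.Prime 2) := ⟨Nat.prime_two⟩
    have hT : IsPGroup 2 T := S.isPGroup'.to_le hTS
    haveI : Group.IsNilpotent T := hT.isNilpotent
    infer_instance
  have hNtop : Subgroup.normalizer (T : Set G) ≠ ⊤ := by
    intro hN
    have hnorm : T.Normal := Subgroup.normalizer_eq_top_iff.1 hN
    have := h.solv T hnorm hTsolv ha
    exact hab (Subgroup.mem_center_iff.1 this b).symm
  have hTN : T ≤ Subgroup.normalizer (T : Set G) := Subgroup.le_normalizer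
  have hyN : y ∈ Subgroup.normalizer (T : Set G) := by
    rw [Subgroup.mem_normalizer_iff]
    exact hyn
  have := h.ca _ hNtop s (hTN hsT) a (hTN ha) b (hTN hb) (hT1 a ha) (hT1 b hb) hab y hyN
  exact hyT (hT2 y hyS this)

theorem zpowers_two {s : G} (h2 : ∃ k : ℕ, s ^ 2 ^ k = 1) : IsPGroup 2 (zpowers s) := by
  obtain ⟨k, hk⟩ := h2
  haveI : Fact (Nat.Prime 2) := ⟨Nat.prime_two⟩
  rw [IsPGroup.iff_card, Nat.card_zpowers]
  obtain ⟨j, _, hj⟩ := (Nat.dvd_prime_pow Nat.prime_two).1 (orderOf_dvd_of_pow_eq_one hk)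
  exact ⟨j, hj⟩

theorem mem_T {s : G} (h2 : ∃ k : ℕ, s ^ 2 ^ k = 1) {S : Sylow 2 G} {T : Subgroup G} (hTS : T ≤ S)
    (hT1 : ∀ t ∈ T, Commute s t) (hT2 : ∀ y ∈ S, Commute s y → y ∈ T) (hsS : s ∈ S) : s ∈ T :=
  hT2 s hsS (Commute.refl s)

/-- every 2-subgroup of the centralizer of a bad 2-element is abelian -/
theorem ab_of_le (h : Frame G) (zs : ∀ S : Sylow 2 G, ∀ z ∈ S, (∀ s ∈ S, Commute z s) → z ∈ center G) (s : G)
    (h2 : ∃ k : ℕ, s ^ 2 ^ k = 1) (hs : Bad s) (Q : Subgroup G) (hQ : IsPGroup 2 Q) (hQs : ∀ q ∈ Q, Commute s q) :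
    ∀ a ∈ Q, ∀ b ∈ Q, Commute a b := by
  haveI : Fact (Nat.Prime 2) := ⟨Nat.prime_two⟩
  have hsup : IsPGroup 2 (Q ⊔ zpowers s : Subgroup G) := by
    refine IsPGroup.to_sup_of_normal_right' hQ (zpowers_two h2) ?_
    intro q hq
    rw [Subgroup.mem_normalizer_iff]
    intro n
    have hc : Commute s q := hQs q hq
    have key : ∀ m ∈ zpowers s, q * m * q⁻¹ = m := by
      intro m hm
      obtain ⟨i, rfl⟩ := Subgroup.mem_zpowers_iff.1 hm
      have : Commute (s ^ i) q := hc.zpow_left i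
      rw [← this.eq, mul_inv_cancel_right]
    constructor
    · intro hn
      rw [key n hn]; exact hn
    · intro hn
      have h1 := key _ hn
      have : q * n * q⁻¹ = n := by
        have h3 : q * (q * n * q⁻¹) * q⁻¹ = q * n * q⁻¹ := h1
        have h4 := mul_left_cancel (mul_right_cancel h3)
        exact h4
      rw [this] at hn
      exact hn
  obtain ⟨S, T, h3, h4, h5, h6⟩ := exists_ST s (Q ⊔ zpowers s) hsup (by
    intro q hq
    have hle : Q ⊔ zpowers s ≤ centralizer ({s} : Set G) := by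
      refine sup_le (fun q hq => ?_) ?_
      · rw [Subgroup.mem_centralizer_singleton_iff]; exact (hQs q hq).symm
      · rw [Subgroup.zpowers_le, Subgroup.mem_centralizer_singleton_iff]
    have := hle hq
    rw [Subgroup.mem_centralizer_singleton_iff] at this
    exact this.symm)
  have hsT : s ∈ T := h3 (Subgroup.mem_sup_right (Subgroup.mem_zpowers s))
  have := (ab_of_bad h zs s h2 hs S T h4 hsT h5 h6).1
  intro a ha b hb
  exact this a (h3 (Subgroup.mem_sup_left ha)) b (h3 (Subgroup.mem_sup_left hb))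

end

theorem b0 {G : Type u} [Group G] [Finite G] (h : Frame G) (sna : ∃ S : Sylow 2 G, ∃ a ∈ S, ∃ b ∈ S, ¬ Commute a b)
    (zs : ∀ S : Sylow 2 G, ∀ z ∈ S, (∀ s ∈ S, Commute z s) → z ∈ center G) (s : G) (h2 : ∃ k : ℕ, s ^ 2 ^ k = 1) :
    ¬ Bad s := by
  intro hs
  obtain ⟨S, T, h3, h4, h5, h6⟩ := exists_ST s (zpowers s) (zpowers_two h2) (by
    intro q hq
    obtain ⟨i, rfl⟩ := Subgroup.mem_zpowers_iff.1 hq
    exact (Commute.refl s).zpow_right i)
  have hsT : s ∈ T := h3 (Subgroup.mem_zpowers s)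
  obtain ⟨hab, y, hyS, hyT, hyn, hy2⟩ := ab_of_bad h zs s h2 hs S T h4 hsT h5 h6
  have hsy : ¬ Commute s y := fun hc => hyT (h6 y hyS hc)
  -- C_T(y) is central
  have hcen : ∀ t ∈ T, Commute t y → t ∈ center G := by
    intro t ht hty
    by_contra htc
    have htb : Bad t := ⟨htc, s, y, hab t ht s hsT, hty, hsy⟩
    have ht2 : ∃ k : ℕ, t ^ 2 ^ k = 1 := by
      obtain ⟨k, hk⟩ := S.isPGroup' ⟨t, h4 ht⟩
      exact ⟨k, congrArg Subtype.val hk⟩
    have hQ : IsPGroup 2 ((S : Subgroup G) ⊓ centralizer ({t} : Set G) : Subgroup G) :=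
      S.isPGroup'.to_le inf_le_left
    refine hsy (ab_of_le h zs t ht2 htb _ hQ ?_ s ?_ y ?_)
    · intro q hq
      exact (Subgroup.mem_centralizer_singleton_iff.1 (Subgroup.mem_inf.1 hq).2).symm
    · exact Subgroup.mem_inf.2 ⟨h4 hsT, Subgroup.mem_centralizer_singleton_iff.2 (hab t ht s hsT).eq.symm⟩
    · exact Subgroup.mem_inf.2 ⟨hyS, Subgroup.mem_centralizer_singleton_iff.2 hty.eq.symm⟩
  have hysT : y * s * y⁻¹ ∈ T := (hyn s).1 hsT
  have hcm : Commute (s * (y * s * y⁻¹)) y := by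
    have e1 : y * (s * (y * s * y⁻¹)) = (s * (y * s * y⁻¹)) * y := by
      have c1 : Commute s (y ^ 2) := hab s hsT _ hy2
      have c2 : Commute s (y * s * y⁻¹) := hab s hsT _ hysT
      calc y * (s * (y * s * y⁻¹)) = (y * s * y⁻¹) * (y ^ 2 * s * (y ^ 2)⁻¹) * y := by
            rw [pow_two]; group
        _ = (y * s * y⁻¹) * s * y := by rw [← c1.eq, mul_inv_cancel_right]
        _ = (s * (y * s * y⁻¹)) * y := by rw [c2.eq]
    exact e1.symm
  have hcc := hcen _ (T.mul_mem hsT hysT) hcm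
  refine hsy (h.norm s hs y fun w hw => ?_)
  have hz := Subgroup.mem_center_iff.1 hcc
  -- y s y⁻¹ = s⁻¹ c
  have e2 : Commute (y * s * y⁻¹) (y * w * y⁻¹) := by
    have : (y * s * y⁻¹) * (y * w * y⁻¹) = (y * w * y⁻¹) * (y * s * y⁻¹) := by
      calc (y * s * y⁻¹) * (y * w * y⁻¹) = y * (s * w) * y⁻¹ := by group
        _ = y * (w * s) * y⁻¹ := by rw [hw.eq]
        _ = (y * w * y⁻¹) * (y * s * y⁻¹) := by group
    exact this
  have e3 : Commute (s * (y * s * y⁻¹)) (y * w * y⁻¹) := (hz (y * w * y⁻¹)).symm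
  have e4 : s = (s * (y * s * y⁻¹)) * (y * s * y⁻¹)⁻¹ := by group
  rw [e4]
  exact e3.mul_left e2.inv_left

end H23.CA
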