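import Cfsg.Agent.Lib.H89.MX0

/-! S5316, piece S1 (helper23). -/

set_option autoImplicit false

namespace H23.MXS1

open Subgroup Cfsg Cfsg.FusionSystem H67.HallPetrescu H57.Mc H89.MX
open scoped commutatorElement

section G
variable {G : Type*} [Group G] [Finite G] {p n : ℕ} [hp : Fact p.Prime]

theorem cmr {A B : Subgroup G} (hAB : A ≤ B) : Nat.card A * A.relIndex B = Nat.card B := by
  have h1 := Subgroup.card_mul_index (A.subgroupOf B)
  rw [Nat.card_congr (Subgroup.subgroupOfEquivOfLe hAB).toEquiv] at h1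
  exact h1

theorem orb (X : Subgroup G) (y : G) :
    Nat.card ((fun x : G => x * y * x⁻¹) '' (X : Set G)) * Nat.card (X ⊓ centralizer ({y} : Set G) : Subgroup G)
      = Nat.card X := by
  letI : MulAction X G := MulAction.compHom G ((MulAut.conj : G →* MulAut G).comp X.subtype)
  have h1 := Nat.card_congr (MulAction.orbitProdStabilizerEquivGroup X y)
  rw [Nat.card_prod] at h1
  have h2 : ((fun x : G => x * y * x⁻¹) '' (X : Set G)) = MulAction.orbit X y := by
    ext v
    constructor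
    · rintro ⟨x, hx, rfl⟩
      exact ⟨⟨x, hx⟩, rfl⟩
    · rintro ⟨x, rfl⟩
      exact ⟨x, x.2, rfl⟩
  have h3 : Nat.card (X ⊓ centralizer ({y} : Set G) : Subgroup G) = Nat.card (MulAction.stabilizer X y) := by
    refine Nat.card_congr ⟨fun v => ⟨⟨v, v.2.1⟩, ?_⟩, fun v => ⟨v.1, v.1.2, ?_⟩, fun v => rfl, fun v => rfl⟩
    · have h4 : (v : G) ∈ centralizer ({y} : Set G) := v.2.2
      rw [mem_centralizer_iff] at h4
      have h5 : y * (v : G) = v * y := h4 y rfl
      show (v : G) * y * (v : G)⁻¹ = y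
      rw [← h5]; group
    · have h4 : (v.1 : G) * y * (v.1 : G)⁻¹ = y := v.2
      show (v.1 : G) ∈ centralizer ({y} : Set G)
      rw [mem_centralizer_iff]
      rintro z (rfl : z = y)
      calc z * (v.1 : G) = ((v.1 : G) * z * (v.1 : G)⁻¹) * v.1 := by rw [h4]
        _ = _ := by group
  rw [h2, h3]
  exact h1

theorem main (h : MC p n G) (h5 : 5 ≤ p) (hn : 5 ≤ n) {A : Subgroup G} (hcA : Nat.card A = p ^ 3)
    (hab : ∀ x ∈ A, ∀ y ∈ A, x * y = y * x) (hC : centralizer (A : Set G) ≤ A)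
    (hN : Nat.card (normalizer (A : Set G)) = p ^ 4) (h2 : ¬ lcsF G (n - 2) ≤ A) :
    n = 6 ∧ ¬ TC G 2 ≤ TC G (n - 2) ∧ Nat.card (A ⊓ lcsF G (n - 3) : Subgroup G) = p ^ 2 ∧
      lcsF G (n - 1) ≤ A ∧ lcsF G (n - 3) ≤ normalizer (A : Set G) ∧
      ∀ g ∈ normalizer (A : Set G), ∀ z ∈ A ⊓ lcsF G (n - 3), g * z = z * g := by
  have p0 : 0 < p := hp.out.pos
  have p1 : 1 < p := hp.out.one_lt
  have hKn : ∀ i, n ≤ i → lcsF G i = ⊥ := fun i hi => h.K_n (by omega) hi
  have hbl := (h.blackburn (by omega) (by omega)).1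
  -- 1
  obtain ⟨y, hyA, hy⟩ : ∃ y ∈ A, y ∉ TC G (n - 2) := by
    by_contra hne
    push Not at hne
    apply h2
    intro x hx
    apply hC
    rw [mem_centralizer_iff]
    intro e he
    have h3 := hne e he x hx
    rw [hKn _ (by omega), mem_bot, commutatorElement_eq_one_iff_mul_comm] at h3
    exact h3.symm
  -- 2
  have hAT : ∀ a ∈ A, a ∉ TC G (n - 2) → a ∈ TC G 2 := by
    intro a ha ha'
    by_contra ha2
    have hU : Unif n a := by
      intro i hi hin
      rcases Nat.lt_or_ge i (n - 2) with h1 | h1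
      · rw [h.TC_eq hi hin (hbl i hi h1)]; exact ha2
      · have h3 : i = n - 2 := by omega
        rw [h3]; exact ha'
    have h3 : A ⊓ TC G 2 ≤ lcsF G (n - 1) := by
      intro x hx
      refine h.cent (by omega) hU hx.2 ?_
      rw [commutatorElement_eq_one_iff_mul_comm]
      exact hab x hx.1 a ha
    have h4 := Subgroup.card_le_of_le h3
    rw [h.cardK (n - 1) (by omega) (by omega)] at h4
    have h6 : (TC G 2).relIndex A ∣ (TC G 2).index := by
      haveI := h.normal_P1 (by omega)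
      exact Subgroup.relIndex_dvd_index_of_normal _ _
    rw [h.index_TC le_rfl (by omega)] at h6
    have h7 : Nat.card (A ⊓ TC G 2 : Subgroup G) * (TC G 2).relIndex A = Nat.card A := by
      rw [inf_comm, ← Subgroup.inf_relIndex_right]
      exact cmr inf_le_right
    have h8 := Nat.le_of_dvd p0 h6
    have h9 : Nat.card A ≤ p ^ (n - (n - 1)) * p := by
      rw [← h7]; exact Nat.mul_le_mul h4 h8
    rw [hcA] at h9
    have h10 : n - (n - 1) = 1 := by omega
    rw [h10, ← pow_succ] at h9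
    exact absurd ((Nat.pow_le_pow_iff_right p1).1 h9) (by omega)
  have hyT : y ∈ TC G 2 := hAT y hyA hy
  have hA2 : A ≤ TC G 2 := by
    intro a ha
    by_cases h3 : a ∈ TC G (n - 2)
    · have h4 : y * a ∉ TC G (n - 2) := fun h6 => hy (by
        have := mul_mem h6 (inv_mem h3)
        rwa [mul_assoc, mul_inv_cancel, mul_one] at this)
      have h6 := hAT _ (mul_mem hyA ha) h4
      have := mul_mem (inv_mem hyT) h6
      rwa [← mul_assoc, inv_mul_cancel, one_mul] at this
    · exact hAT a ha h3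
  -- 3
  have hex : ¬ TC G 2 ≤ TC G (n - 2) := fun h3 => hy (h3 hyT)
  have hev : Even n := by
    by_contra hodd
    rw [Nat.not_even_iff_odd] at hodd
    exact hex (h.thmB hn (by omega) hodd hbl)
  have h6 : 6 ≤ n := by
    obtain ⟨k, hk⟩ := hev
    omega
  -- 4
  have hK1 : lcsF G (n - 1) ≤ A := by
    intro x hx
    apply hC
    rw [mem_centralizer_iff]
    intro e _
    exact h.central (by omega) hx e
  -- 5
  have norm_of : ∀ x : G, (∀ e ∈ A, x * e * x⁻¹ ∈ A) → x ∈ normalizer (A : Set G) := by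
    intro x hx
    have h3 : A.map (MulAut.conj x).toMonoidHom = A := by
      apply Subgroup.eq_of_le_of_card_ge
      · rintro _ ⟨e, he, rfl⟩
        exact hx e he
      · rw [Nat.card_congr (A.equivMapOfInjective _ (MulAut.conj x).injective).toEquiv.symm]
    rw [mem_normalizer_iff]
    intro e
    refine ⟨hx e, fun he => ?_⟩
    have h4 : x * e * x⁻¹ ∈ A.map (MulAut.conj x).toMonoidHom := by rw [h3]; exact he
    obtain ⟨e', he', h7⟩ := h4
    have h8 : x * e' * x⁻¹ = x * e * x⁻¹ := h7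
    have h9 : e' = e := by simpa using h8
    rw [← h9]; exact he'
  have hK3N : lcsF G (n - 3) ≤ normalizer (A : Set G) := by
    intro x hx
    apply norm_of
    intro e he
    have h3 := hbl (n - 3) (by omega) (by omega) (hA2 he) x hx
    have h4 : n - 3 + 2 = n - 1 := by omega
    rw [h4] at h3
    have h7 : x * e * x⁻¹ = ⁅x, e⁆ * e := by rw [commutatorElement_def]; group
    rw [h7]
    exact mul_mem (hK1 h3) he
  have hK23 : lcsF G (n - 2) ≤ lcsF G (n - 3) := K_anti (by omega)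
  have hK2N : lcsF G (n - 2) ≤ normalizer (A : Set G) := hK23.trans hK3N
  -- 6
  have hAN : A ≤ normalizer (A : Set G) := Subgroup.le_normalizer
  have hsup : A ⊔ lcsF G (n - 2) = normalizer (A : Set G) := by
    have hM : A ⊔ lcsF G (n - 2) ≤ normalizer (A : Set G) := sup_le hAN hK2N
    apply Subgroup.eq_of_le_of_card_ge hM
    have hcM : Nat.card (A ⊔ lcsF G (n - 2) : Subgroup G) ∣ p ^ 4 := hN ▸ Subgroup.card_dvd_of_le hM
    rw [hN]
    obtain ⟨k, hk, hk'⟩ := (Nat.dvd_prime_pow hp.out).1 hcM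
    rw [hk']
    apply Nat.pow_le_pow_right p0
    by_contra hlt
    have h3 : Nat.card (A ⊔ lcsF G (n - 2) : Subgroup G) ≤ Nat.card A := by
      rw [hk', hcA]
      exact Nat.pow_le_pow_right p0 (by omega)
    have h4 : A = A ⊔ lcsF G (n - 2) := Subgroup.eq_of_le_of_card_ge le_sup_left h3
    exact h2 (by rw [h4]; exact le_sup_right)
  -- 7
  have hK3A : ¬ lcsF G (n - 3) ≤ A := fun h3 => h2 (hK23.trans h3)
  have hcK3 : Nat.card (lcsF G (n - 3)) = p ^ 3 := by
    rw [h.cardK (n - 3) (by omega) (by omega)]; congr 1; omega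
  have hcH : Nat.card (A ⊓ lcsF G (n - 3) : Subgroup G) = p ^ 2 := by
    have h3 : Nat.card (A ⊓ lcsF G (n - 3) : Subgroup G) * A.relIndex (lcsF G (n - 3)) = p ^ 3 := by
      rw [← hcK3, ← Subgroup.inf_relIndex_right]
      exact cmr inf_le_right
    have h4 : A.relIndex (lcsF G (n - 3)) ≤ A.relIndex (normalizer (A : Set G)) :=
      Subgroup.relIndex_le_of_le_right hK3N (by
        rw [Subgroup.relIndex]; exact Subgroup.index_ne_zero_of_finite)
    have h7 : Nat.card A * A.relIndex (normalizer (A : Set G)) = p ^ 4 := by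
      rw [← hN]; exact cmr hAN
    have h8 : A.relIndex (normalizer (A : Set G)) = p := by
      rw [hcA] at h7
      have h9 : p ^ 4 = p ^ 3 * p := by ring
      rw [h9] at h7
      exact Nat.eq_of_mul_eq_mul_left (pow_pos p0 3) h7
    rw [h8] at h4
    have hd : Nat.card (A ⊓ lcsF G (n - 3) : Subgroup G) ∣ p ^ 3 := ⟨_, h3.symm⟩
    obtain ⟨k, hk, hk'⟩ := (Nat.dvd_prime_pow hp.out).1 hd
    have hk3 : k ≠ 3 := by
      rintro rfl
      apply hK3A
      have h9 : A ⊓ lcsF G (n - 3) = lcsF G (n - 3) :=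
        Subgroup.eq_of_le_of_card_ge inf_le_right (by rw [hk', hcK3])
      rw [← h9]; exact inf_le_left
    have hk2 : 2 ≤ k := by
      by_contra hlt
      have h9 : p ^ 3 ≤ p ^ k * p := by
        rw [← h3, hk']; exact Nat.mul_le_mul_left _ h4
      rw [← pow_succ] at h9
      have := (Nat.pow_le_pow_iff_right p1).1 h9
      omega
    have hk4 : k = 2 := by omega
    rw [hk', hk4]
  -- 8
  have hcomm : ∀ g ∈ normalizer (A : Set G), ∀ z ∈ A ⊓ lcsF G (n - 3), g * z = z * g := by
    intro g hg z hz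
    have h3 : normalizer (A : Set G) ≤ centralizer ({z} : Set G) := by
      rw [← hsup]
      refine sup_le (fun e he => ?_) (fun x hx => ?_)
      · rw [mem_centralizer_iff]
        rintro w (rfl : w = z)
        exact hab w hz.1 e he
      · rw [mem_centralizer_iff]
        rintro w (rfl : w = z)
        have h3 := comm_memK hz.2 hx
        rw [hKn _ (by omega), mem_bot, commutatorElement_eq_one_iff_mul_comm] at h3
        exact h3
    have h4 := h3 hg
    rw [mem_centralizer_iff] at h4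
    exact (h4 z rfl).symm
  refine ⟨?_, hex, hcH, hK1, hK3N, hcomm⟩
  -- 9
  by_contra hn6
  have h8 : 8 ≤ n := by
    obtain ⟨k, hk⟩ := hev
    omega
  set H : Subgroup G := A ⊓ lcsF G (n - 3) with hH
  set M : Subgroup G := normalizer (A : Set G) ⊓ lcsF G 2 with hM
  have hyK2 : y ∉ lcsF G 2 := fun h3 => hy (K2_le_TC _ h3)
  have hK2M : lcsF G (n - 2) ≤ M := le_inf hK2N (K_anti (by omega))
  have hcM : Nat.card M ≤ p ^ 3 := by
    have hd : Nat.card M ∣ p ^ 4 := hN ▸ Subgroup.card_dvd_of_le inf_le_left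
    obtain ⟨k, hk, hk'⟩ := (Nat.dvd_prime_pow hp.out).1 hd
    rw [hk']
    apply Nat.pow_le_pow_right p0
    by_contra hlt
    have hk4 : k = 4 := by omega
    have h3 : M = normalizer (A : Set G) :=
      Subgroup.eq_of_le_of_card_ge inf_le_left (by rw [hN, hk', hk4])
    have h4 : y ∈ M := by rw [h3]; exact hAN hyA
    exact hyK2 h4.2
  -- A = <y> H : every element of A is  y^k h
  have hAH : ∀ g : G, g * y * g⁻¹ ∈ A → (∀ z ∈ H, g * z * g⁻¹ ∈ A) → g ∈ normalizer (A : Set G) := by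
    intro g hg hgH
    have h3 : (A.map (MulAut.conj g).toMonoidHom) ≤ A := by
      -- the preimage contains y and H
      have h4 : A ≤ A.comap (MulAut.conj g).toMonoidHom := by
        have h7 : A = A ⊓ (A.comap (MulAut.conj g).toMonoidHom) := by
          have hHle : H ≤ A ⊓ (A.comap (MulAut.conj g).toMonoidHom) :=
            le_inf inf_le_left (fun z hz => hgH z hz)
          have hd : Nat.card (A ⊓ (A.comap (MulAut.conj g).toMonoidHom) : Subgroup G) ∣ p ^ 3 :=
            hcA ▸ Subgroup.card_dvd_of_le inf_le_left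
          obtain ⟨k, hk, hk'⟩ := (Nat.dvd_prime_pow hp.out).1 hd
          symm
          apply Subgroup.eq_of_le_of_card_ge inf_le_left
          rw [hcA, hk']
          apply Nat.pow_le_pow_right p0
          by_contra hlt
          have h9 : H = A ⊓ (A.comap (MulAut.conj g).toMonoidHom) :=
            Subgroup.eq_of_le_of_card_ge hHle (by
              rw [hk', hcH]; exact Nat.pow_le_pow_right p0 (by omega))
          have h10 : y ∈ H := by rw [h9]; exact ⟨hyA, hg⟩
          exact hyK2 (K_anti (by omega) h10.2)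
        exact h7.le.trans inf_le_right
      exact Subgroup.map_le_iff_le_comap.2 h4
    apply norm_of
    intro e he
    exact h3 ⟨e, he, rfl⟩
  have hgH : ∀ g ∈ lcsF G 2, ∀ z ∈ H, g * z * g⁻¹ ∈ A := by
    intro g hg z hz
    have h3 := comm_memK hg hz.2
    have h4 : 2 + (n - 3) = n - 1 := by omega
    rw [h4] at h3
    have h7 : g * z * g⁻¹ = ⁅g, z⁆ * z := by rw [commutatorElement_def]; group
    rw [h7]
    exact mul_mem (hK1 h3) hz.1
  have hcent : Nat.card (lcsF G 2 ⊓ centralizer ({y} : Set G) : Subgroup G) ≤ p ^ 2 := by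
    have h3 : lcsF G 2 ⊓ centralizer ({y} : Set G) ≤ M := by
      intro g hg
      refine ⟨hAH g ?_ (hgH g hg.1), hg.1⟩
      have h4 : g ∈ centralizer ({y} : Set G) := hg.2
      rw [mem_centralizer_iff] at h4
      have h7 : y * g = g * y := h4 y rfl
      rw [← h7]
      simpa using hyA
    have hd : Nat.card (lcsF G 2 ⊓ centralizer ({y} : Set G) : Subgroup G) ∣ p ^ n :=
      h.card ▸ Subgroup.card_subgroup_dvd_card _
    obtain ⟨k, hk, hk'⟩ := (Nat.dvd_prime_pow hp.out).1 hd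
    rw [hk']
    apply Nat.pow_le_pow_right p0
    by_contra hlt
    have h4 : lcsF G 2 ⊓ centralizer ({y} : Set G) = M :=
      Subgroup.eq_of_le_of_card_ge h3 (by
        rw [hk']; exact hcM.trans (Nat.pow_le_pow_right p0 (by omega)))
    apply hy
    intro x hx
    have h7 : x ∈ lcsF G 2 ⊓ centralizer ({y} : Set G) := by rw [h4]; exact hK2M hx
    have h9 : x ∈ centralizer ({y} : Set G) := h7.2
    rw [mem_centralizer_iff] at h9
    have h10 : ⁅x, y⁆ = 1 := by
      rw [commutatorElement_eq_one_iff_mul_comm]; exact (h9 y rfl).symm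
    rw [h10]; exact one_mem _
  have ho := orb (lcsF G 2) y
  have hsub : ((fun x : G => x * y * x⁻¹) '' (lcsF G 2 : Set G)) ⊆ (fun v : G => v * y) '' (lcsF G 4 : Set G) := by
    rintro _ ⟨x, hx, rfl⟩
    refine ⟨⁅x, y⁆, hyT x hx, ?_⟩
    show ⁅x, y⁆ * y = x * y * x⁻¹
    rw [commutatorElement_def]; group
  have hc4 : Nat.card ((fun v : G => v * y) '' (lcsF G 4 : Set G)) = p ^ (n - 4) := by
    rw [Nat.card_image_of_injective (mul_left_injective y)]
    exact h.cardK 4 (by omega) (by omega)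
  have heq : ((fun x : G => x * y * x⁻¹) '' (lcsF G 2 : Set G)) = (fun v : G => v * y) '' (lcsF G 4 : Set G) := by
    apply Set.eq_of_subset_of_ncard_le hsub _ (Set.toFinite _)
    rw [← Nat.card_coe_set_eq, ← Nat.card_coe_set_eq, hc4]
    have h3 : p ^ (n - 4) * p ^ 2 ≤ Nat.card ((fun x : G => x * y * x⁻¹) '' (lcsF G 2 : Set G)) * p ^ 2 := by
      have h4 : p ^ (n - 4) * p ^ 2 = Nat.card (lcsF G 2) := by
        rw [h.cardK 2 le_rfl (by omega), ← pow_add]; congr 1; omega
      rw [h4, ← ho]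
      exact Nat.mul_le_mul_left _ hcent
    exact Nat.le_of_mul_le_mul_right h3 (pow_pos p0 2)
  -- M contains g_h for all h in H
  have hHM : (fun v : G => v * y) '' (H : Set G) ⊆ (fun x : G => x * y * x⁻¹) '' (M : Set G) := by
    rintro _ ⟨v, hv, rfl⟩
    have h3 : v ∈ lcsF G 4 := K_anti (by omega) hv.2
    have h4 : v * y ∈ (fun x : G => x * y * x⁻¹) '' (lcsF G 2 : Set G) := by
      rw [heq]; exact ⟨v, h3, rfl⟩
    obtain ⟨g, hg, hgy⟩ := h4
    have hgy' : g * y * g⁻¹ = v * y := hgy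
    refine ⟨g, ⟨hAH g ?_ (hgH g hg), hg⟩, hgy⟩
    rw [hgy']
    exact mul_mem hv.1 hyA
  have hoM := orb M y
  have h10 : p ^ 2 ≤ Nat.card ((fun x : G => x * y * x⁻¹) '' (M : Set G)) := by
    have h3 : Nat.card ((fun v : G => v * y) '' (H : Set G)) = p ^ 2 := by
      rw [Nat.card_image_of_injective (mul_left_injective y)]
      exact hcH
    rw [← h3, Nat.card_coe_set_eq, Nat.card_coe_set_eq]
    exact Set.ncard_le_ncard hHM (Set.toFinite _)
  have h11 : p ^ 2 ≤ Nat.card (M ⊓ centralizer ({y} : Set G) : Subgroup G) := by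
    rw [← hcH]
    apply Subgroup.card_le_of_le
    intro z hz
    refine ⟨⟨hAN hz.1, K_anti (by omega) hz.2⟩, ?_⟩
    show z ∈ centralizer ({y} : Set G)
    rw [mem_centralizer_iff]
    rintro w (rfl : w = y)
    exact hab w hyA z hz.1
  have h12 : p ^ 2 * p ^ 2 ≤ p ^ 3 := (Nat.mul_le_mul h10 h11).trans (hoM.le.trans hcM)
  rw [← pow_add] at h12
  have := (Nat.pow_le_pow_iff_right p1).1 h12
  omega

end G

variable {Ω : Type*} [Group Ω] {S : Subgroup Ω} [Finite S] {p n : ℕ} [hp : Fact p.Prime] {F : FusionSystem S}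
  {E C W B : Subgroup Ω} {τ : MulAut E}

theorem z2_or_of (D : Dat S p n F E) (hN : Nat.card (normalizerIn S E) = p ^ 4) : K S (n - 2) ≤ E ∨
    (n = 6 ∧ ¬ TC ↥S 2 ≤ TC ↥S (n - 2) ∧ ¬ K S (n - 2) ≤ E ∧ Nat.card (E ⊓ K S (n - 3) : Subgroup Ω) = p ^ 2 ∧
      K S (n - 1) ≤ E ∧ K S (n - 3) ≤ normalizer (E : Set Ω) ∧
      ∀ g ∈ S, g ∈ normalizer (E : Set Ω) → ∀ z ∈ E ⊓ K S (n - 3), g * z = z * g) := by
  have hES : E ≤ S := D.ess.1.1
  rw [or_iff_not_imp_left]
  intro h2
  have hle : ∀ i, lcsF ↥S i ≤ E.subgroupOf S ↔ K S i ≤ E := fun i => Subgroup.map_le_iff_le_comap.symm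
  have hnorm : ∀ g : S, g ∈ normalizer (E.subgroupOf S : Set S) ↔ (g : Ω) ∈ normalizer (E : Set Ω) := by
    intro g
    rw [mem_normalizer_iff, mem_normalizer_iff]
    constructor
    · intro h e
      constructor
      · intro he
        exact (h ⟨e, hES he⟩).1 he
      · intro he
        have h3 : e ∈ S := by
          have := S.mul_mem (S.mul_mem (S.inv_mem g.2) (hES he)) g.2
          have h4 : (g : Ω)⁻¹ * ((g : Ω) * e * (g : Ω)⁻¹) * g = e := by group
          rwa [h4] at this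
        exact (h ⟨e, h3⟩).2 he
    · intro h e
      exact h e
  have hcA : Nat.card (E.subgroupOf S) = p ^ 3 := by
    rw [Nat.card_congr (Subgroup.subgroupOfEquivOfLe hES).toEquiv, D.card]
  have hab : ∀ x ∈ E.subgroupOf S, ∀ y ∈ E.subgroupOf S, x * y = y * x := by
    intro x hx y hy
    exact Subtype.ext (D.comm x hx y hy)
  have hC : centralizer ((E.subgroupOf S : Subgroup S) : Set S) ≤ E.subgroupOf S := by
    intro x hx
    rw [mem_centralizer_iff] at hx
    have h0 : (x : Ω) ∈ centralizerIn S E := by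
      refine ⟨x.2, ?_⟩
      show (x : Ω) ∈ centralizer (E : Set Ω)
      rw [mem_centralizer_iff]
      intro y hy
      exact congrArg Subtype.val (hx ⟨y, hES hy⟩ hy)
    exact H57.Ess.centralizerIn_le_of_essential D.ess h0
  have hN' : Nat.card (normalizer ((E.subgroupOf S : Subgroup S) : Set S)) = p ^ 4 := by
    rw [← hN]
    refine Nat.card_congr ⟨fun g => ⟨(g : S), ⟨g.1.2, (hnorm g.1).1 g.2⟩⟩,
      fun g => ⟨⟨g, g.2.1⟩, (hnorm ⟨g, g.2.1⟩).2 g.2.2⟩, fun g => rfl, fun g => rfl⟩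
  obtain ⟨h6, hex, hc, h1, h3, h4⟩ := main D.mc D.hp D.hn hcA hab hC hN' (fun h => h2 ((hle _).1 h))
  refine ⟨h6, hex, h2, ?_, (hle _).1 h1, ?_, ?_⟩
  · rw [← hc]
    have h7 : E ⊓ K S (n - 3) = (E.subgroupOf S ⊓ lcsF ↥S (n - 3)).map S.subtype := by
      ext x
      constructor
      · rintro ⟨hx, ⟨z, hz, rfl⟩⟩
        exact ⟨z, ⟨hx, hz⟩, rfl⟩
      · rintro ⟨z, ⟨hz1, hz2⟩, rfl⟩
        exact ⟨hz1, ⟨z, hz2, rfl⟩⟩
    rw [h7]
    exact (Nat.card_congr (Subgroup.equivMapOfInjective _ S.subtype S.subtype_injective).toEquiv).symm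
  · rintro _ ⟨x, hx, rfl⟩
    exact (hnorm x).1 (h3 hx)
  · rintro g hg hgN z ⟨hz1, ⟨w, hw, rfl⟩⟩
    exact congrArg Subtype.val (h4 ⟨g, hg⟩ ((hnorm ⟨g, hg⟩).2 hgN) w ⟨hz1, hw⟩)

end H23.MXS1

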