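import Cfsg.Agent.Lib.H89.MX0

/-! S5316, pieces N1 and S2 (helper23). -/

set_option autoImplicit false

namespace H23.MXS2

open Subgroup Cfsg Cfsg.FusionSystem H67.HallPetrescu H57.Mc H89.MX
open scoped commutatorElement

variable {Ω : Type*} [Group Ω] {S : Subgroup Ω}

theorem K_le_S (i : ℕ) : K S i ≤ S := by
  rintro _ ⟨x, -, rfl⟩
  exact x.2

theorem K_anti' {i j : ℕ} (h : i ≤ j) : K S j ≤ K S i := Subgroup.map_mono (K_anti h)

theorem K_comm {i j : ℕ} {x y : Ω} (hx : x ∈ K S i) (hy : y ∈ K S j) : ⁅x, y⁆ ∈ K S (i + j) := by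
  obtain ⟨a, ha, rfl⟩ := hx
  obtain ⟨b, hb, rfl⟩ := hy
  exact ⟨⁅a, b⁆, comm_memK ha hb, map_commutatorElement S.subtype a b⟩

theorem K_comm' {i : ℕ} {x g : Ω} (hx : x ∈ K S i) (hg : g ∈ S) : ⁅x, g⁆ ∈ K S (i + 1) := by
  obtain ⟨a, ha, rfl⟩ := hx
  exact ⟨⁅a, ⟨g, hg⟩⁆, comm_memK' ha ⟨g, hg⟩, map_commutatorElement S.subtype a ⟨g, hg⟩⟩

theorem KT_comm {i : ℕ} {x g : Ω} (hx : x ∈ K S i) (hg : g ∈ T S i) : ⁅x, g⁆ ∈ K S (i + 2) := by
  obtain ⟨a, ha, rfl⟩ := hx
  obtain ⟨b, hb, rfl⟩ := hg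
  exact ⟨⁅a, b⁆, hb a ha, map_commutatorElement S.subtype a b⟩

variable [Finite S] {p n : ℕ} [hp : Fact p.Prime] {F : FusionSystem S} {E : Subgroup Ω}

theorem card_map_sub (H : Subgroup S) : Nat.card (H.map S.subtype : Subgroup Ω) = Nat.card H :=
  (Nat.card_congr (H.equivMapOfInjective S.subtype S.subtype_injective).toEquiv).symm

theorem card_K (h : MC p n S) {i : ℕ} (hi : 2 ≤ i) (hin : i ≤ n) : Nat.card (K S i) = p ^ (n - i) := by
  rw [K, card_map_sub, h.cardK i hi hin]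

theorem norm_of {X : Subgroup Ω} (hX : ∀ x ∈ X, ∀ e ∈ E, x * e * x⁻¹ ∈ E) : X ≤ normalizer (E : Set Ω) := by
  intro x hx
  rw [mem_normalizer_iff]
  intro e
  constructor
  · exact hX x hx e
  · intro h
    have h1 := hX x⁻¹ (inv_mem hx) _ h
    have h2 : x⁻¹ * (x * e * x⁻¹) * x⁻¹⁻¹ = e := by group
    rwa [h2] at h1

theorem norm_cent_of (D : Dat S p n F E) (hN : Nat.card (normalizerIn S E) = p ^ 4) (h2 : K S (n - 2) ≤ E)
    (hne : E ≠ K S (n - 3)) :
    ∀ g ∈ S, g ∈ normalizer (E : Set Ω) → ∀ z ∈ K S (n - 2), g * z = z * g := by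
  have hn := D.hn
  have hES : E ≤ S := D.ess.1.1
  have hEN : E ≤ normalizerIn S E := le_inf hES Subgroup.le_normalizer
  have hZN : K S (n - 3) ≤ normalizerIn S E := by
    refine le_inf (K_le_S _) (norm_of fun x hx e he => ?_)
    have h3 := K_comm' hx (hES he)
    have h4 : n - 3 + 1 = n - 2 := by omega
    rw [h4] at h3
    have h5 : x * e * x⁻¹ = ⁅x, e⁆ * e := by rw [commutatorElement_def]; group
    rw [h5]
    exact mul_mem (h2 h3) he
  haveI : Finite (normalizerIn S E) := Nat.finite_of_card_ne_zero (by rw [hN]; exact pow_ne_zero _ hp.out.ne_zero)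
  have hM : E ⊔ K S (n - 3) ≤ normalizerIn S E := sup_le hEN hZN
  haveI : Finite (E ⊔ K S (n - 3) : Subgroup Ω) := Finite.of_injective _ (Subgroup.inclusion_injective hM)
  have hcM : Nat.card (E ⊔ K S (n - 3) : Subgroup Ω) ∣ p ^ 4 := hN ▸ Subgroup.card_dvd_of_le hM
  have heq : E ⊔ K S (n - 3) = normalizerIn S E := by
    apply Subgroup.eq_of_le_of_card_ge hM
    rw [hN]
    obtain ⟨k, hk, hk'⟩ := (Nat.dvd_prime_pow hp.out).1 hcM
    rw [hk']
    apply Nat.pow_le_pow_right hp.out.pos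
    by_contra hlt
    have h3 : Nat.card (E ⊔ K S (n - 3) : Subgroup Ω) ≤ Nat.card E := by
      rw [hk', D.card]
      exact Nat.pow_le_pow_right hp.out.pos (by omega)
    have h4 : E = E ⊔ K S (n - 3) := Subgroup.eq_of_le_of_card_ge le_sup_left h3
    have h5 : K S (n - 3) ≤ E := by rw [h4]; exact le_sup_right
    haveI : Finite E := Finite.of_injective _ (Subgroup.inclusion_injective hEN)
    exact hne (Subgroup.eq_of_le_of_card_ge h5 (by
      rw [D.card, card_K D.mc (by omega) (by omega)]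
      exact Nat.pow_le_pow_right hp.out.pos (by omega))).symm
  have hC : normalizerIn S E ≤ centralizer (K S (n - 2) : Set Ω) := by
    rw [← heq]
    refine sup_le (fun e he => ?_) (fun x hx => ?_)
    · rw [mem_centralizer_iff]
      intro z hz
      exact D.comm z (h2 hz) e he
    · rw [mem_centralizer_iff]
      intro z hz
      have h3 := K_comm hz hx
      have h4 : K S (n - 2 + (n - 3)) = ⊥ := by
        rw [K, D.mc.K_n (by omega) (by omega), Subgroup.map_bot]
      rw [h4, mem_bot, commutatorElement_eq_one_iff_mul_comm] at h3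
      exact h3
  intro g hg hgN z hz
  have h3 := hC ⟨hg, hgN⟩
  rw [mem_centralizer_iff] at h3
  exact (h3 z hz).symm

-- S2
theorem caseA (D : Dat S p n F E) (h2 : K S (n - 2) ≤ E) (hN : Nat.card (normalizerIn S E) = p ^ 4) (h6 : 6 ≤ n) :
    ¬ TC ↥S 2 ≤ TC ↥S (n - 2) ∧ ¬ E ≤ T S 2 := by
  have hn := D.hn
  have h5 := D.hp
  have hES : E ≤ S := D.ess.1.1
  haveI : Finite (normalizerIn S E) := Nat.finite_of_card_ne_zero (by rw [hN]; exact pow_ne_zero _ hp.out.ne_zero)
  have hb := (D.mc.blackburn (by omega) (by omega)).1 (n - 4) (by omega) (by omega)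
  have key : ∀ x ∈ K S (n - 4), ∀ g ∈ T S 2, ⁅x, g⁆ ∈ E := by
    intro x hx g hg
    have h3 := KT_comm hx (Subgroup.map_mono hb hg)
    have h4 : n - 4 + 2 = n - 2 := by omega
    rw [h4] at h3
    exact h2 h3
  have hnot : ¬ E ≤ T S 2 := by
    intro hE
    have hKN : K S (n - 4) ≤ normalizerIn S E := by
      refine le_inf (K_le_S _) (norm_of fun x hx e he => ?_)
      have h3 : x * e * x⁻¹ = ⁅x, e⁆ * e := by rw [commutatorElement_def]; group
      rw [h3]
      exact mul_mem (key x hx e (hE he)) he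
    have heq : K S (n - 4) = normalizerIn S E := by
      apply Subgroup.eq_of_le_of_card_ge hKN
      rw [hN, card_K D.mc (by omega) (by omega)]
      exact Nat.pow_le_pow_right hp.out.pos (by omega)
    have hEK : E ≤ K S (n - 4) := by
      rw [heq]; exact le_inf hES Subgroup.le_normalizer
    have hT : T S 2 ≤ normalizerIn S E := by
      refine le_inf ?_ (norm_of fun g hg e he => ?_)
      · rintro _ ⟨x, -, rfl⟩
        exact x.2
      · have h3 : g * e * g⁻¹ = ⁅e, g⁆⁻¹ * e := by rw [commutatorElement_def]; group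
        rw [h3]
        exact mul_mem (inv_mem (key e (hEK he) g hg)) he
    have hc := Subgroup.card_le_of_le hT
    rw [hN, T, card_map_sub] at hc
    have h3 := Subgroup.card_mul_index (TC ↥S 2)
    rw [D.mc.index_TC le_rfl (by omega), D.mc.card] at h3
    have h4 : p ^ n = p ^ (n - 1) * p := by rw [← pow_succ]; congr 1; omega
    rw [h4] at h3
    have h7 := Nat.eq_of_mul_eq_mul_right hp.out.pos h3
    rw [h7] at hc
    have h8 := (Nat.pow_le_pow_iff_right hp.out.one_lt).1 hc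
    omega
  refine ⟨fun hle => hnot ?_, hnot⟩
  have h3 : TC ↥S (n - 2) = TC ↥S 2 := D.mc.TC_eq (by omega) (by omega) hle
  intro e he
  refine ⟨⟨e, hES he⟩, ?_, rfl⟩
  show (⟨e, hES he⟩ : S) ∈ TC ↥S 2
  rw [← h3, mem_TC]
  intro x hx
  have h4 : ⁅(x : Ω), e⁆ = 1 := by
    rw [commutatorElement_eq_one_iff_mul_comm]
    exact D.comm _ (h2 ⟨x, hx, rfl⟩) e he
  have h7 : ⁅x, (⟨e, hES he⟩ : S)⁆ = 1 := Subtype.ext (by
    have := map_commutatorElement S.subtype x ⟨e, hES he⟩
    exact this.trans h4)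
  rw [h7]
  exact one_mem _

end H23.MXS2
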