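/-
H23: certificates: the 27-dimensional module of E6.
-/
import Cfsg.Agent.Lib.H23.Minu
import Cfsg.Prelude.Def_ChevE6
set_option autoImplicit false
set_option maxRecDepth 100000

namespace H23.Minu

open Cfsg.Lie H23.ChevNSCheck

/-- root elements -/
def listE6 : List SM := [
   [(0, 23, 1), (6, 21, -1), (13, 5, -1), (16, 4, 1), (19, 11, 1), (25, 9, -1)],
   [(10, 9, 1), (13, 12, 1), (16, 15, 1), (18, 21, -1), (19, 22, -1), (20, 23, -1)],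
   [(10, 11, 1), (13, 14, 1), (16, 17, 1), (24, 21, -1), (25, 22, -1), (26, 23, -1)],
   [(2, 23, 1), (8, 21, -1), (10, 4, -1), (13, 3, 1), (19, 17, 1), (25, 15, -1)],
   [(1, 23, -1), (7, 21, 1), (10, 5, -1), (16, 3, 1), (19, 14, -1), (25, 12, 1)],
   [(0, 22, 1), (3, 21, -1), (13, 8, 1), (16, 7, -1), (20, 11, -1), (26, 9, 1)],
   [(0, 15, 1), (2, 9, -1), (13, 24, -1), (14, 21, 1), (19, 7, -1), (20, 4, 1)],
   [(0, 12, -1), (1, 9, 1), (16, 24, -1), (17, 21, 1), (19, 8, -1), (20, 5, 1)],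
   [(0, 17, 1), (2, 11, -1), (12, 21, -1), (13, 18, 1), (25, 7, -1), (26, 4, 1)],
   [(0, 14, -1), (1, 11, 1), (15, 21, -1), (16, 18, 1), (25, 8, -1), (26, 5, 1)],
   [(0, 3, -1), (1, 4, -1), (2, 5, -1), (19, 18, 1), (22, 21, 1), (25, 24, 1)],
   [(2, 22, 1), (5, 21, -1), (10, 7, 1), (13, 6, -1), (20, 17, -1), (26, 15, 1)],
   [(1, 22, -1), (4, 21, 1), (10, 8, 1), (16, 6, -1), (20, 14, 1), (26, 12, -1)],
   [(1, 15, -1), (2, 12, 1), (10, 24, -1), (11, 21, 1), (19, 6, -1), (20, 3, 1)],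
   [(1, 17, -1), (2, 14, 1), (9, 21, -1), (10, 18, 1), (25, 6, -1), (26, 3, 1)],
   [(0, 6, 1), (1, 7, 1), (2, 8, 1), (20, 18, -1), (23, 21, -1), (26, 24, -1)],
   [(3, 23, -1), (6, 22, 1), (13, 2, -1), (16, 1, 1), (18, 11, 1), (24, 9, -1)],
   [(6, 15, 1), (8, 9, -1), (13, 26, -1), (14, 23, 1), (18, 4, -1), (19, 1, 1)],
   [(6, 12, -1), (7, 9, 1), (16, 26, -1), (17, 23, 1), (18, 5, -1), (19, 2, 1)],
   [(6, 17, 1), (8, 11, -1), (12, 23, -1), (13, 20, 1), (24, 4, -1), (25, 1, 1)],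
   [(6, 14, -1), (7, 11, 1), (15, 23, -1), (16, 20, 1), (24, 5, -1), (25, 2, 1)],
   [(6, 3, -1), (7, 4, -1), (8, 5, -1), (19, 20, 1), (22, 23, 1), (25, 26, 1)],
   [(0, 1, -1), (3, 4, -1), (6, 7, -1), (12, 9, 1), (13, 10, 1), (14, 11, 1)],
   [(0, 2, -1), (3, 5, -1), (6, 8, -1), (15, 9, 1), (16, 10, 1), (17, 11, 1)],
   [(0, 26, -1), (6, 24, 1), (14, 5, 1), (17, 4, -1), (19, 10, 1), (22, 9, -1)],
   [(0, 20, 1), (6, 18, -1), (12, 5, -1), (15, 4, 1), (22, 11, -1), (25, 10, 1)],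
   [(5, 23, -1), (8, 22, 1), (10, 1, -1), (13, 0, 1), (18, 17, 1), (24, 15, -1)],
   [(4, 23, 1), (7, 22, -1), (10, 2, -1), (16, 0, 1), (18, 14, -1), (24, 12, 1)],
   [(7, 15, -1), (8, 12, 1), (10, 26, -1), (11, 23, 1), (18, 3, -1), (19, 0, 1)],
   [(7, 17, -1), (8, 14, 1), (9, 23, -1), (10, 20, 1), (24, 3, -1), (25, 0, 1)],
   [(3, 15, 1), (5, 9, -1), (13, 25, -1), (14, 22, 1), (18, 7, 1), (20, 1, -1)],
   [(3, 12, -1), (4, 9, 1), (16, 25, -1), (17, 22, 1), (18, 8, 1), (20, 2, -1)],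
   [(11, 9, 1), (14, 12, 1), (17, 15, 1), (18, 24, -1), (19, 25, -1), (20, 26, -1)],
   [(3, 17, -1), (5, 11, 1), (12, 22, 1), (13, 19, -1), (24, 7, -1), (26, 1, 1)],
   [(3, 14, 1), (4, 11, -1), (15, 22, 1), (16, 19, -1), (24, 8, -1), (26, 2, 1)],
   [(2, 1, 1), (5, 4, 1), (8, 7, 1), (12, 15, -1), (13, 16, -1), (14, 17, -1)],
   [(1, 2, 1), (4, 5, 1), (7, 8, 1), (15, 12, -1), (16, 13, -1), (17, 14, -1)],
   [(2, 26, 1), (8, 24, -1), (11, 4, -1), (14, 3, 1), (19, 16, -1), (22, 15, 1)],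
   [(1, 26, 1), (7, 24, -1), (11, 5, 1), (17, 3, -1), (19, 13, -1), (22, 12, 1)],
   [(9, 11, 1), (12, 14, 1), (15, 17, 1), (24, 18, -1), (25, 19, -1), (26, 20, -1)],
   [(2, 20, -1), (8, 18, 1), (9, 4, 1), (12, 3, -1), (22, 17, 1), (25, 16, -1)],
   [(1, 20, -1), (7, 18, 1), (9, 5, -1), (15, 3, 1), (22, 14, 1), (25, 13, -1)],
   [(0, 25, 1), (3, 24, -1), (14, 8, 1), (17, 7, -1), (20, 10, 1), (23, 9, -1)],
   [(0, 19, 1), (3, 18, -1), (12, 8, 1), (15, 7, -1), (23, 11, 1), (26, 10, -1)],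
   [(0, 16, 1), (2, 10, -1), (12, 24, 1), (14, 18, -1), (22, 7, -1), (23, 4, 1)],
   [(0, 13, 1), (1, 10, -1), (15, 24, -1), (17, 18, 1), (22, 8, 1), (23, 5, -1)],
   [(4, 15, 1), (5, 12, -1), (10, 25, 1), (11, 22, -1), (18, 6, -1), (20, 0, 1)],
   [(4, 17, -1), (5, 14, 1), (9, 22, -1), (10, 19, 1), (24, 6, 1), (26, 0, -1)],
   [(2, 0, -1), (5, 3, -1), (8, 6, -1), (9, 15, 1), (10, 16, 1), (11, 17, 1)],
   [(1, 0, -1), (4, 3, -1), (7, 6, -1), (9, 12, 1), (10, 13, 1), (11, 14, 1)],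
   [(3, 6, -1), (4, 7, -1), (5, 8, -1), (20, 19, 1), (23, 22, 1), (26, 25, 1)],
   [(2, 25, 1), (5, 24, -1), (11, 7, 1), (14, 6, -1), (20, 16, 1), (23, 15, -1)],
   [(1, 25, 1), (4, 24, -1), (11, 8, -1), (17, 6, 1), (20, 13, 1), (23, 12, -1)],
   [(2, 19, 1), (5, 18, -1), (9, 7, 1), (12, 6, -1), (23, 17, 1), (26, 16, -1)],
   [(1, 19, 1), (4, 18, -1), (9, 8, -1), (15, 6, 1), (23, 14, 1), (26, 13, -1)],
   [(1, 16, 1), (2, 13, -1), (9, 24, -1), (11, 18, 1), (22, 6, 1), (23, 3, -1)],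
   [(6, 0, 1), (7, 1, 1), (8, 2, 1), (18, 20, -1), (21, 23, -1), (24, 26, -1)],
   [(3, 26, 1), (6, 25, -1), (14, 2, 1), (17, 1, -1), (18, 10, 1), (21, 9, -1)],
   [(3, 20, 1), (6, 19, -1), (12, 2, 1), (15, 1, -1), (21, 11, 1), (24, 10, -1)],
   [(6, 16, -1), (8, 10, 1), (12, 26, -1), (14, 20, 1), (21, 4, 1), (22, 1, -1)],
   [(6, 13, -1), (7, 10, 1), (15, 26, 1), (17, 20, -1), (21, 5, -1), (22, 2, 1)],
   [(3, 0, -1), (4, 1, -1), (5, 2, -1), (18, 19, 1), (21, 22, 1), (24, 25, 1)],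
   [(5, 26, 1), (8, 25, -1), (11, 1, 1), (14, 0, -1), (18, 16, 1), (21, 15, -1)],
   [(4, 26, 1), (7, 25, -1), (11, 2, -1), (17, 0, 1), (18, 13, 1), (21, 12, -1)],
   [(5, 20, 1), (8, 19, -1), (9, 1, 1), (12, 0, -1), (21, 17, 1), (24, 16, -1)],
   [(4, 20, 1), (7, 19, -1), (9, 2, -1), (15, 0, 1), (21, 14, 1), (24, 13, -1)],
   [(7, 16, -1), (8, 13, 1), (9, 26, 1), (11, 20, -1), (21, 3, -1), (22, 0, 1)],
   [(3, 16, 1), (5, 10, -1), (12, 25, 1), (14, 19, -1), (21, 7, 1), (23, 1, -1)],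
   [(3, 13, 1), (4, 10, -1), (15, 25, -1), (17, 19, 1), (21, 8, -1), (23, 2, 1)],
   [(11, 10, 1), (14, 13, 1), (17, 16, 1), (21, 24, -1), (22, 25, -1), (23, 26, -1)],
   [(9, 10, 1), (12, 13, 1), (15, 16, 1), (21, 18, -1), (22, 19, -1), (23, 20, -1)],
   [(4, 16, 1), (5, 13, -1), (9, 25, -1), (11, 19, 1), (21, 6, -1), (23, 0, 1)]]

/-- the 27-dimensional module of E6 in the coordinates of three 3 x 3 matrices (9 k + 3 i + j) -/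
abbrev minE6 : MCode := ⟨27, listE6⟩

theorem easyE6 : minE6.easy chevE6 = true := by decide +kernel
theorem pairsE6 : minE6.pairs chevE6 = true := by decide +kernel

end H23.Minu
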