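import Cfsg.Agent.Lib.H23.NAJ4w

/-! S2883: a finite simple group isomorphic to J4, Fi24', Th, B or M has a nonabelian Sylow 2-subgroup. -/

set_option autoImplicit false

namespace H23.NA
open Cfsg.Spor

theorem wit_false {K X : Type*} [Group K] [Finite K] [Group X] (e : K ≃* X) (w : Wit X)
    (h : ∀ S : Sylow 2 K, IsMulCommutative ↥(S : Subgroup K)) : False :=
  (w.congr e.symm).not_comm h

theorem false_J4 {K : Type*} [Group K] [Finite K] (hs : IsSimpleGroup K) (_hnc : ∃ x y : K, x * y ≠ y * x)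
    (hK : Cfsg.Spor.IsoJ4 K) (h : ∀ S : Sylow 2 K, IsMulCommutative ↥(S : Subgroup K)) : False := by
  obtain ⟨e⟩ := hK
  exact wit_false e (J.wit (e.symm.toEquiv.nontrivial)) h

theorem false_Th {K : Type*} [Group K] [Finite K] (hs : IsSimpleGroup K) (_hnc : ∃ x y : K, x * y ≠ y * x)
    (hK : Cfsg.Spor.IsoTh K) (h : ∀ S : Sylow 2 K, IsMulCommutative ↥(S : Subgroup K)) : False := by
  obtain ⟨e⟩ := hK
  exact wit_false e (T.wit (e.symm.toEquiv.nontrivial)) h

theorem false_Fi24 {K : Type*} [Group K] [Finite K] (hs : IsSimpleGroup K) (_hnc : ∃ x y : K, x * y ≠ y * x)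
    (hK : Cfsg.Spor.IsoFi24' K) (h : ∀ S : Sylow 2 K, IsMulCommutative ↥(S : Subgroup K)) : False := by
  obtain ⟨e⟩ := hK
  exact wit_false e (F.wit (e.symm.toEquiv.nontrivial)) h

theorem false_M {K : Type*} [Group K] [Finite K] (hs : IsSimpleGroup K) (_hnc : ∃ x y : K, x * y ≠ y * x)
    (hK : Cfsg.Spor.IsoM K) (h : ∀ S : Sylow 2 K, IsMulCommutative ↥(S : Subgroup K)) : False := by
  obtain ⟨e⟩ := hK
  exact wit_false e (M.wit (e.symm.toEquiv.nontrivial)) h

theorem false_B {K : Type*} [Group K] [Finite K] (_hs : IsSimpleGroup K) (hnc : ∃ x y : K, x * y ≠ y * x)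
    (hK : Cfsg.Spor.IsoB K) (h : ∀ S : Sylow 2 K, IsMulCommutative ↥(S : Subgroup K)) : False := by
  obtain ⟨e⟩ := hK
  refine wit_false e (B.wit fun hc => ?_) h
  obtain ⟨x, y, hxy⟩ := hnc
  apply hxy
  apply e.injective
  rw [map_mul, map_mul, hc]

end H23.NA
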