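import Cfsg.Prelude.Def_Spor_B
import Cfsg.Prelude.Def_Spor_M
import Cfsg.Prelude.Def_Spor_Fi24
import Cfsg.Prelude.Def_Spor_Th
import Cfsg.Prelude.Def_Spor_J4

/-! S2883: the presented groups B, M, Fi24', Th have a nonabelian Sylow 2-subgroup (as soon as they are finite and
not trivial). -/

set_option autoImplicit false
set_option maxRecDepth 20000

namespace H23.NA
open Cfsg.Spor

/-- a 2-element inverted by an involution, not an involution itself -/
def Wit (X : Type*) [Group X] : Prop := ∃ p v : X, ∃ k : ℕ, p * p = 1 ∧ v ^ 2 ^ k = 1 ∧ p * v * p⁻¹ = v⁻¹ ∧ v * v ≠ 1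

theorem Wit.congr {X Y : Type*} [Group X] [Group Y] (e : X ≃* Y) (h : Wit X) : Wit Y := by
  obtain ⟨p, v, k, h1, h2, h3, h4⟩ := h
  refine ⟨e p, e v, k, ?_, ?_, ?_, ?_⟩
  · rw [← map_mul, h1, map_one]
  · rw [← map_pow, h2, map_one]
  · rw [← map_inv, ← map_mul, ← map_mul, h3, map_inv]
  · intro h
    rw [← map_mul] at h
    exact h4 (e.injective (by rw [h, map_one]))

theorem Wit.not_comm {X : Type*} [Group X] [Finite X] (h : Wit X) : ¬ ∀ S : Sylow 2 X, IsMulCommutative ↥(S : Subgroup X) := by
  obtain ⟨p, v, k, h1, h2, h3, h4⟩ := h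
  intro hS
  haveI : Fact (Nat.Prime 2) := ⟨Nat.prime_two⟩
  -- ⟨v⟩ ⊔ ⟨p⟩ is a 2-group
  have hv2 : IsPGroup 2 (Subgroup.zpowers v) := by
    rw [IsPGroup.iff_card]
    rw [Nat.card_zpowers]
    obtain ⟨j, _, hj⟩ := (Nat.dvd_prime_pow Nat.prime_two).1 (orderOf_dvd_of_pow_eq_one h2)
    exact ⟨j, hj⟩
  have hp2 : IsPGroup 2 (Subgroup.zpowers p) := by
    rw [IsPGroup.iff_card]
    rw [Nat.card_zpowers]
    obtain ⟨j, _, hj⟩ := (Nat.dvd_prime_pow Nat.prime_two).1
      (orderOf_dvd_of_pow_eq_one (show p ^ 2 ^ 1 = 1 by rw [pow_one, pow_two, h1]))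
    exact ⟨j, hj⟩
  have hn : Subgroup.zpowers p ≤ Subgroup.normalizer ((Subgroup.zpowers v : Subgroup X) : Set X) := by
    rw [Subgroup.zpowers_le, Subgroup.mem_normalizer_iff]
    intro n
    constructor
    · intro hn
      obtain ⟨m, rfl⟩ := Subgroup.mem_zpowers_iff.1 hn
      rw [← conj_zpow, h3]
      exact Subgroup.zpow_mem _ (Subgroup.inv_mem _ (Subgroup.mem_zpowers v)) m
    · intro hn
      obtain ⟨m, hm⟩ := Subgroup.mem_zpowers_iff.1 hn
      have : n = p⁻¹ * v ^ m * p := by rw [hm]; group
      rw [this]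
      have hpi : p⁻¹ = p := inv_eq_of_mul_eq_one_right h1
      have : p⁻¹ * v ^ m * p = (p * v * p⁻¹) ^ m := by rw [conj_zpow, hpi]
      rw [this, h3]
      exact Subgroup.zpow_mem _ (Subgroup.inv_mem _ (Subgroup.mem_zpowers v)) m
  have h := IsPGroup.to_sup_of_normal_right' hp2 hv2 hn
  obtain ⟨S, hS1⟩ := h.exists_le_sylow
  have hpS : p ∈ (S : Subgroup X) := hS1 (Subgroup.mem_sup_left (Subgroup.mem_zpowers p))
  have hvS : v ∈ (S : Subgroup X) := hS1 (Subgroup.mem_sup_right (Subgroup.mem_zpowers v))
  have hc := (hS S).is_comm.comm ⟨p, hpS⟩ ⟨v, hvS⟩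
  have hc' : p * v = v * p := congrArg Subtype.val hc
  apply h4
  rw [hc', mul_inv_cancel_right] at h3
  nth_rewrite 1 [h3]
  exact inv_mul_cancel v

section cox
variable {X : Type*} [Group X]

/-- the Coxeter element of an `A₃` subdiagram -/
theorem a3 {p q r : X} (hp : p * p = 1) (hq : q * q = 1) (hr : r * r = 1) (h1 : (p * q) ^ 3 = 1) (h2 : (q * r) ^ 3 = 1)
    (h3 : (p * r) ^ 2 = 1) : (p * q * r) * (p * q * r) = q * (p * r) * q ∧ (p * r) * (p * q * r) * (p * r)⁻¹ = (p * q * r)⁻¹ := by
  have hpi : p⁻¹ = p := inv_eq_of_mul_eq_one_right hp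
  have hqi : q⁻¹ = q := inv_eq_of_mul_eq_one_right hq
  have hri : r⁻¹ = r := inv_eq_of_mul_eq_one_right hr
  have hpr : r * p = p * r := by
    have : (p * r) * (p * r) = 1 := by rw [← pow_two]; exact h3
    have h := inv_eq_of_mul_eq_one_right this
    rw [mul_inv_rev, hpi, hri] at h
    exact h
  have e1 : p * q * p = q * p * q := by
    have h : p * q * p * (q * p * q) = 1 := by
      have : (p * q) ^ 3 = p * q * p * (q * p * q) := by rw [pow_succ, pow_two]; simp only [mul_assoc]
      rw [← this]; exact h1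
    have h' := eq_inv_of_mul_eq_one_left h
    rw [h', mul_inv_rev, mul_inv_rev, hpi, hqi, mul_assoc]
  have e2 : r * q * r = q * r * q := by
    have h : q * r * q * (r * q * r) = 1 := by
      have : (q * r) ^ 3 = q * r * q * (r * q * r) := by rw [pow_succ, pow_two]; simp only [mul_assoc]
      rw [← this]; exact h2
    have h' := eq_inv_of_mul_eq_one_left h
    rw [h', mul_inv_rev, mul_inv_rev, hri, hqi, mul_assoc]
  constructor
  · calc (p * q * r) * (p * q * r) = p * q * (r * p) * q * r := by simp only [mul_assoc]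
      _ = p * q * (p * r) * q * r := by rw [hpr]
      _ = (p * q * p) * (r * q * r) := by simp only [mul_assoc]
      _ = (q * p * q) * (q * r * q) := by rw [e1, e2]
      _ = q * p * (q * q) * r * q := by simp only [mul_assoc]
      _ = q * (p * r) * q := by rw [hq]; simp only [mul_assoc, mul_one, one_mul]
  · rw [mul_inv_rev, mul_inv_rev, mul_inv_rev, hpi, hqi, hri]
    calc p * r * (p * q * r) * (r * p) = p * (r * p) * q * (r * r) * p := by simp only [mul_assoc]
      _ = p * (p * r) * q * 1 * p := by rw [hpr, hr]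
      _ = (p * p) * r * q * p := by simp only [mul_assoc, mul_one, one_mul]
      _ = r * (q * p) := by rw [hp, one_mul, mul_assoc]

theorem a3_wit {p q r s : X} (hp : p * p = 1) (hq : q * q = 1) (hr : r * r = 1) (h1 : (p * q) ^ 3 = 1)
    (h2 : (q * r) ^ 3 = 1) (h3 : (p * r) ^ 2 = 1) (hs : s * s = 1) (hsp : s * p = p * s) (hsq : s * q = q * s)
    (hsr : s * r = r * s) (hne : p ≠ r) :
    (p * r) * (p * r) = 1 ∧ (p * q * r * s) ^ 2 ^ 2 = 1 ∧
      (p * r) * (p * q * r * s) * (p * r)⁻¹ = (p * q * r * s)⁻¹ ∧ (p * q * r * s) * (p * q * r * s) ≠ 1 := by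
  obtain ⟨e1, e2⟩ := a3 hp hq hr h1 h2 h3
  have hsi : s⁻¹ = s := inv_eq_of_mul_eq_one_right hs
  have hri : r⁻¹ = r := inv_eq_of_mul_eq_one_right hr
  have hx : s * (p * q * r) = (p * q * r) * s := by
    rw [← mul_assoc, ← mul_assoc, hsp, mul_assoc p s q, hsq, ← mul_assoc, mul_assoc (p * q) s r, hsr, ← mul_assoc]
  have hsq2 : (p * q * r * s) * (p * q * r * s) = q * (p * r) * q := by
    calc (p * q * r * s) * (p * q * r * s) = (p * q * r) * (s * (p * q * r)) * s := by simp only [mul_assoc]
      _ = (p * q * r) * ((p * q * r) * s) * s := by rw [hx]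
      _ = ((p * q * r) * (p * q * r)) * (s * s) := by simp only [mul_assoc]
      _ = q * (p * r) * q := by rw [e1, hs, mul_one]
  have h3' : (p * r) * (p * r) = 1 := by rw [← pow_two]; exact h3
  refine ⟨h3', ?_, ?_, ?_⟩
  · have : (p * q * r * s) ^ 2 ^ 2 = ((p * q * r * s) * (p * q * r * s)) * ((p * q * r * s) * (p * q * r * s)) := by
      norm_num [pow_succ, mul_assoc]
    rw [this, hsq2]
    calc q * (p * r) * q * (q * (p * r) * q) = q * (p * r) * (q * q) * (p * r) * q := by simp only [mul_assoc]
      _ = q * ((p * r) * (p * r)) * q := by rw [hq]; simp only [mul_assoc, one_mul]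
      _ = 1 := by rw [h3', mul_one, hq]
  · have hprs : s * (p * r)⁻¹ = (p * r)⁻¹ * s := by
      have : s * (p * r) = (p * r) * s := by rw [← mul_assoc, hsp, mul_assoc, hsr, mul_assoc]
      have hc : Commute s (p * r) := this
      exact (hc.inv_right).eq
    calc (p * r) * (p * q * r * s) * (p * r)⁻¹ = (p * r) * (p * q * r) * (s * (p * r)⁻¹) := by simp only [mul_assoc]
      _ = ((p * r) * (p * q * r) * (p * r)⁻¹) * s := by rw [hprs]; simp only [mul_assoc]
      _ = (p * q * r)⁻¹ * s := by rw [e2]
      _ = (p * q * r * s)⁻¹ := by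
        rw [mul_inv_rev (p * q * r) s, hsi]
        have hc : Commute s (p * q * r) := hx
        exact (hc.inv_right).eq.symm
  · rw [hsq2]
    intro h
    apply hne
    have hqi : q⁻¹ = q := inv_eq_of_mul_eq_one_right hq
    have h' : p * r = 1 := by
      have : p * r = q⁻¹ * (q * (p * r) * q) * q⁻¹ := by group
      rw [this, h, mul_one, hqi, hq]
    rw [eq_inv_of_mul_eq_one_left h', hri]

theorem step {u v w β : X} (hβ : β * β = 1) (hu : u = β) (hv : v = β) (h2 : (u * w) ^ 2 = 1) (h3 : (v * w) ^ 3 = 1) :
    w = β := by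
  subst hu
  subst hv
  rw [pow_succ, h2, one_mul] at h3
  rw [← inv_eq_of_mul_eq_one_right h3]
  exact inv_eq_of_mul_eq_one_right hβ

theorem ab_eq {u v : X} (hu : u * u = 1) (hv : v * v = 1) (h3 : (u * v) ^ 3 = 1) :
    Abelianization.of u = Abelianization.of v := by
  have e1 : Abelianization.of u * Abelianization.of u = 1 := by rw [← map_mul, hu, map_one]
  have e2 : Abelianization.of v * Abelianization.of v = 1 := by rw [← map_mul, hv, map_one]
  have e3 : (Abelianization.of u * Abelianization.of v) ^ 3 = 1 := by rw [← map_mul, ← map_pow, h3, map_one]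
  generalize Abelianization.of u = U at *
  generalize Abelianization.of v = V at *
  have e4 : U * V = 1 := by
    have : (U * V) ^ 3 = (U * U) * (V * V) * (U * V) := by
      rw [pow_succ, pow_two]; ac_rfl
    rw [this, e1, e2, one_mul, one_mul] at e3
    exact e3
  rw [eq_inv_of_mul_eq_one_left e4]
  exact inv_eq_of_mul_eq_one_right e2

end cox

section pres
variable {α : Type} [DecidableEq α] {edges : List (α × ℕ × α)} {extra : List (FreeGroup α)}

/-- generators -/
def g (edges : List (α × ℕ × α)) (extra : List (FreeGroup α)) (x : α) : CoxPresented α edges extra := PresentedGroup.of x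

theorem rel {x y : α} (hx : x ∈ coxNodes edges) (hy : y ∈ coxNodes edges) {n : ℕ} (h : coxLabel edges x y = n) :
    (g edges extra x * g edges extra y) ^ n = 1 := by
  have h1 : (FreeGroup.of x * FreeGroup.of y) ^ coxLabel edges x y ∈ coxRelators edges ∪ {r | r ∈ extra} :=
    Or.inl ⟨x, hx, y, hy, rfl⟩
  have h2 := PresentedGroup.one_of_mem h1
  rw [h, map_pow, map_mul] at h2
  exact h2

theorem gsq {x : α} (hx : x ∈ coxNodes edges) : g edges extra x * g edges extra x = 1 := by
  have h := rel (extra := extra) hx hx (n := 1) (by simp [coxLabel])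
  rw [pow_one] at h
  exact h

theorem gcomm {x y : α} (hx : x ∈ coxNodes edges) (hy : y ∈ coxNodes edges) (h : coxLabel edges x y = 2) :
    g edges extra x * g edges extra y = g edges extra y * g edges extra x := by
  have h1 := rel (extra := extra) hx hy h
  rw [pow_two] at h1
  have h2 := inv_eq_of_mul_eq_one_right h1
  rw [mul_inv_rev, inv_eq_of_mul_eq_one_right (gsq hx), inv_eq_of_mul_eq_one_right (gsq hy)] at h2
  exact h2.symm

theorem gstep {u v w : α} {β : CoxPresented α edges extra} (hβ : β * β = 1) (hu : u ∈ coxNodes edges) (hv : v ∈ coxNodes edges)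
    (hw : w ∈ coxNodes edges) (h2 : coxLabel edges u w = 2) (h3 : coxLabel edges v w = 3)
    (eu : g edges extra u = β) (ev : g edges extra v = β) : g edges extra w = β :=
  step hβ eu ev (rel hu hw h2) (rel hv hw h3)

theorem comm_of_all {β : CoxPresented α edges extra} (h : ∀ x, g edges extra x = β) (x y : CoxPresented α edges extra) :
    x * y = y * x := by
  have htop : ∀ z : CoxPresented α edges extra, z ∈ Subgroup.zpowers β := by
    intro z
    have hz : z ∈ Subgroup.closure (Set.range (PresentedGroup.of (rels := coxRelators edges ∪ {r | r ∈ extra}))) := by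
      rw [PresentedGroup.closure_range_of]; trivial
    refine Subgroup.closure_le _ |>.2 ?_ hz
    rintro _ ⟨a, rfl⟩
    have := h a
    change g edges extra a ∈ _
    rw [this]
    exact Subgroup.mem_zpowers β
  obtain ⟨m, rfl⟩ := Subgroup.mem_zpowers_iff.1 (htop x)
  obtain ⟨n, rfl⟩ := Subgroup.mem_zpowers_iff.1 (htop y)
  rw [← zpow_add, ← zpow_add, add_comm]

end pres

/-! ### The Baby Monster -/

namespace B
open BabyMonster

local notation "γ" => g edges extra

theorem collapse (h : γ .t1 = γ .t3) : ∀ x, γ x = γ .t3 := by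
  have hβ : γ .t3 * γ .t3 = 1 := gsq (by decide)
  have h3 : γ .t3 = γ .t3 := rfl
  have h4 : γ .t4 = γ .t3 := gstep hβ (u := .t1) (v := .t3) (by decide) (by decide) (by decide) (by decide) (by decide) h h3
  have h2 : γ .t2 = γ .t3 := gstep hβ (u := .t4) (v := .t3) (by decide) (by decide) (by decide) (by decide) (by decide) h4 h3
  have h5 : γ .t5 = γ .t3 := gstep hβ (u := .t3) (v := .t4) (by decide) (by decide) (by decide) (by decide) (by decide) h3 h4
  have h6 : γ .t6 = γ .t3 := gstep hβ (u := .t3) (v := .t5) (by decide) (by decide) (by decide) (by decide) (by decide) h3 h5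
  have h7 : γ .t7 = γ .t3 := gstep hβ (u := .t3) (v := .t6) (by decide) (by decide) (by decide) (by decide) (by decide) h3 h6
  have h8 : γ .t8 = γ .t3 := gstep hβ (u := .t3) (v := .t7) (by decide) (by decide) (by decide) (by decide) (by decide) h3 h7
  have h9 : γ .t9 = γ .t3 := gstep hβ (u := .t3) (v := .t5) (by decide) (by decide) (by decide) (by decide) (by decide) h3 h5
  have h10 : γ .t10 = γ .t3 := gstep hβ (u := .t3) (v := .t9) (by decide) (by decide) (by decide) (by decide) (by decide) h3 h9
  have h11 : γ .t11 = γ .t3 := gstep hβ (u := .t3) (v := .t10) (by decide) (by decide) (by decide) (by decide) (by decide) h3 h10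
  intro x
  cases x <;> assumption

theorem wit (hnc : ¬ ∀ x y : BabyMonster, x * y = y * x) : Wit BabyMonster := by
  have hne : γ .t1 ≠ γ .t3 := fun h => hnc (comm_of_all (collapse h))
  obtain ⟨h1, h2, h3, h4⟩ := a3_wit (p := γ .t1) (q := γ .t2) (r := γ .t3) (s := 1) (gsq (by decide)) (gsq (by decide))
    (gsq (by decide)) (rel (by decide) (by decide) (by decide)) (rel (by decide) (by decide) (by decide))
    (rel (by decide) (by decide) (by decide)) (by rw [one_mul]) (by rw [one_mul, mul_one]) (by rw [one_mul, mul_one])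
    (by rw [one_mul, mul_one]) hne
  exact ⟨_, _, 2, h1, h2, h3, h4⟩

end B

/-! ### The Monster -/

namespace M
open Bimonster

local notation "γ" => g edges extra

theorem collapse (h : γ .c1 = γ .e1) : ∀ x, γ x = γ .e1 := by
  have hβ : γ .e1 * γ .e1 = 1 := gsq (by decide)
  have he : γ .e1 = γ .e1 := rfl
  have hf : γ .f1 = γ .e1 := gstep hβ (u := .c1) (v := .e1) (by decide) (by decide) (by decide) (by decide) (by decide) h he
  have hd : γ .d1 = γ .e1 := gstep hβ (u := .f1) (v := .e1) (by decide) (by decide) (by decide) (by decide) (by decide) hf he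
  have hb : γ .b1 = γ .e1 := gstep hβ (u := .e1) (v := .c1) (by decide) (by decide) (by decide) (by decide) (by decide) he h
  have ha : γ .a = γ .e1 := gstep hβ (u := .e1) (v := .b1) (by decide) (by decide) (by decide) (by decide) (by decide) he hb
  have hb2 : γ .b2 = γ .e1 := gstep hβ (u := .e1) (v := .a) (by decide) (by decide) (by decide) (by decide) (by decide) he ha
  have hc2 : γ .c2 = γ .e1 := gstep hβ (u := .e1) (v := .b2) (by decide) (by decide) (by decide) (by decide) (by decide) he hb2
  have hd2 : γ .d2 = γ .e1 := gstep hβ (u := .e1) (v := .c2) (by decide) (by decide) (by decide) (by decide) (by decide) he hc2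
  have he2 : γ .e2 = γ .e1 := gstep hβ (u := .e1) (v := .d2) (by decide) (by decide) (by decide) (by decide) (by decide) he hd2
  have hf2 : γ .f2 = γ .e1 := gstep hβ (u := .e1) (v := .e2) (by decide) (by decide) (by decide) (by decide) (by decide) he he2
  have hb3 : γ .b3 = γ .e1 := gstep hβ (u := .e1) (v := .a) (by decide) (by decide) (by decide) (by decide) (by decide) he ha
  have hc3 : γ .c3 = γ .e1 := gstep hβ (u := .e1) (v := .b3) (by decide) (by decide) (by decide) (by decide) (by decide) he hb3
  have hd3 : γ .d3 = γ .e1 := gstep hβ (u := .e1) (v := .c3) (by decide) (by decide) (by decide) (by decide) (by decide) he hc3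
  have he3 : γ .e3 = γ .e1 := gstep hβ (u := .e1) (v := .d3) (by decide) (by decide) (by decide) (by decide) (by decide) he hd3
  have hf3 : γ .f3 = γ .e1 := gstep hβ (u := .e1) (v := .e3) (by decide) (by decide) (by decide) (by decide) (by decide) he he3
  intro x
  cases x <;> assumption

theorem ab (x : Gen) : Abelianization.of (γ x) = Abelianization.of (γ .a) := by
  have key : ∀ u v : Gen, u ∈ coxNodes edges → v ∈ coxNodes edges → coxLabel edges u v = 3 →
      Abelianization.of (γ u) = Abelianization.of (γ v) := fun u v hu hv h => ab_eq (gsq hu) (gsq hv) (rel hu hv h)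
  have b1 := key .b1 .a (by decide) (by decide) (by decide)
  have c1 := (key .c1 .b1 (by decide) (by decide) (by decide)).trans b1
  have d1 := (key .d1 .c1 (by decide) (by decide) (by decide)).trans c1
  have e1 := (key .e1 .d1 (by decide) (by decide) (by decide)).trans d1
  have f1 := (key .f1 .e1 (by decide) (by decide) (by decide)).trans e1
  have b2 := key .b2 .a (by decide) (by decide) (by decide)
  have c2 := (key .c2 .b2 (by decide) (by decide) (by decide)).trans b2
  have d2 := (key .d2 .c2 (by decide) (by decide) (by decide)).trans c2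
  have e2 := (key .e2 .d2 (by decide) (by decide) (by decide)).trans d2
  have f2 := (key .f2 .e2 (by decide) (by decide) (by decide)).trans e2
  have b3 := key .b3 .a (by decide) (by decide) (by decide)
  have c3 := (key .c3 .b3 (by decide) (by decide) (by decide)).trans b3
  have d3 := (key .d3 .c3 (by decide) (by decide) (by decide)).trans c3
  have e3 := (key .e3 .d3 (by decide) (by decide) (by decide)).trans d3
  have f3 := (key .f3 .e3 (by decide) (by decide) (by decide)).trans e3
  cases x <;> first | rfl | assumption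

theorem aa : Abelianization.of (γ .a) * Abelianization.of (γ .a) = 1 := by
  rw [← map_mul, gsq (by decide), map_one]

theorem mem_comm {w : Bimonster} (h : Abelianization.of w = 1) : w ∈ commutator Bimonster := by
  rw [← Abelianization.ker_of]; exact h

theorem wit (hnt : Nontrivial Monster) : Wit Monster := by
  have hne : γ .c1 ≠ γ .e1 := by
    intro h
    have hc := comm_of_all (collapse h)
    have : commutator Bimonster = ⊥ := by
      rw [commutator_eq_bot_iff_center_eq_top, Subgroup.eq_top_iff']
      intro x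
      rw [Subgroup.mem_center_iff]
      intro y
      exact hc y x
    obtain ⟨x, y, hxy⟩ := hnt
    apply hxy
    have hx := x.2.2
    have hy := y.2.2
    simp only [this] at hx hy
    exact Subtype.ext ((Subgroup.mem_bot.1 hx).trans (Subgroup.mem_bot.1 hy).symm)
  obtain ⟨h1, h2, h3, h4⟩ := a3_wit (p := γ .c1) (q := γ .d1) (r := γ .e1) (s := γ .c2) (gsq (by decide)) (gsq (by decide))
    (gsq (by decide)) (rel (by decide) (by decide) (by decide)) (rel (by decide) (by decide) (by decide))
    (rel (by decide) (by decide) (by decide)) (gsq (by decide)) (gcomm (by decide) (by decide) (by decide))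
    (gcomm (by decide) (by decide) (by decide)) (gcomm (by decide) (by decide) (by decide)) hne
  have ca : ∀ x : Gen, x ∈ coxNodes edges → coxLabel edges x .a = 2 → Commute (γ x) (γ .a) := fun x hx h =>
    gcomm hx (by decide) h
  have m1 : γ .c1 * γ .e1 ∈ Subgroup.centralizer {(PresentedGroup.of Bimonster.Gen.a : Bimonster)} ⊓ commutator Bimonster := by
    refine Subgroup.mem_inf.2 ⟨?_, mem_comm ?_⟩
    · rw [Subgroup.mem_centralizer_singleton_iff]
      exact ((ca .c1 (by decide) (by decide)).mul_left (ca .e1 (by decide) (by decide))).eq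
    · rw [map_mul, ab .c1, ab .e1, aa]
  have m2 : γ .c1 * γ .d1 * γ .e1 * γ .c2 ∈
      Subgroup.centralizer {(PresentedGroup.of Bimonster.Gen.a : Bimonster)} ⊓ commutator Bimonster := by
    refine Subgroup.mem_inf.2 ⟨?_, mem_comm ?_⟩
    · rw [Subgroup.mem_centralizer_singleton_iff]
      exact ((((ca .c1 (by decide) (by decide)).mul_left (ca .d1 (by decide) (by decide))).mul_left
        (ca .e1 (by decide) (by decide))).mul_left (ca .c2 (by decide) (by decide))).eq
    · rw [map_mul, map_mul, map_mul, ab .c1, ab .e1, ab .d1, ab .c2, aa, one_mul, aa]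
  exact ⟨⟨_, m1⟩, ⟨_, m2⟩, 2, Subtype.ext h1, Subtype.ext h2, Subtype.ext h3, fun h => h4 (congrArg Subtype.val h)⟩

end M

/-! ### Fi24' -/

namespace F
open Fi24

local notation "γ" => g edges extra

theorem collapse (h : γ .l = γ .a) : ∀ x, γ x = γ .a := by
  have hβ : γ .a * γ .a = 1 := gsq (by decide)
  have ha : γ .a = γ .a := rfl
  have hb : γ .b = γ .a := gstep hβ (u := .l) (v := .a) (by decide) (by decide) (by decide) (by decide) (by decide) h ha
  have hk : γ .k = γ .a := gstep hβ (u := .b) (v := .a) (by decide) (by decide) (by decide) (by decide) (by decide) hb ha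
  have hc : γ .c = γ .a := gstep hβ (u := .a) (v := .b) (by decide) (by decide) (by decide) (by decide) (by decide) ha hb
  have hd : γ .d = γ .a := gstep hβ (u := .a) (v := .c) (by decide) (by decide) (by decide) (by decide) (by decide) ha hc
  have he : γ .e = γ .a := gstep hβ (u := .a) (v := .d) (by decide) (by decide) (by decide) (by decide) (by decide) ha hd
  have hf : γ .f = γ .a := gstep hβ (u := .a) (v := .e) (by decide) (by decide) (by decide) (by decide) (by decide) ha he
  have hg : γ .g = γ .a := gstep hβ (u := .a) (v := .f) (by decide) (by decide) (by decide) (by decide) (by decide) ha hf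
  have hj : γ .j = γ .a := gstep hβ (u := .a) (v := .g) (by decide) (by decide) (by decide) (by decide) (by decide) ha hg
  have hh : γ .h = γ .a := gstep hβ (u := .a) (v := .d) (by decide) (by decide) (by decide) (by decide) (by decide) ha hd
  have hi : γ .i = γ .a := gstep hβ (u := .a) (v := .h) (by decide) (by decide) (by decide) (by decide) (by decide) ha hh
  intro x
  cases x <;> assumption

theorem ab (x : Gen) : Abelianization.of (γ x) = Abelianization.of (γ .d) := by
  have key : ∀ u v : Gen, u ∈ coxNodes edges → v ∈ coxNodes edges → coxLabel edges u v = 3 →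
      Abelianization.of (γ u) = Abelianization.of (γ v) := fun u v hu hv h => ab_eq (gsq hu) (gsq hv) (rel hu hv h)
  have c := key .c .d (by decide) (by decide) (by decide)
  have b := (key .b .c (by decide) (by decide) (by decide)).trans c
  have a := (key .a .b (by decide) (by decide) (by decide)).trans b
  have k := (key .k .a (by decide) (by decide) (by decide)).trans a
  have l := (key .l .k (by decide) (by decide) (by decide)).trans k
  have e := key .e .d (by decide) (by decide) (by decide)
  have f := (key .f .e (by decide) (by decide) (by decide)).trans e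
  have g' := (key .g .f (by decide) (by decide) (by decide)).trans f
  have j := (key .j .g (by decide) (by decide) (by decide)).trans g'
  have h := key .h .d (by decide) (by decide) (by decide)
  have i := (key .i .h (by decide) (by decide) (by decide)).trans h
  cases x <;> first | rfl | assumption

theorem dd : Abelianization.of (γ .d) * Abelianization.of (γ .d) = 1 := by
  rw [← map_mul, gsq (by decide), map_one]

theorem mem_comm {w : Fi24} (h : Abelianization.of w = 1) : w ∈ commutator Fi24 := by
  rw [← Abelianization.ker_of]; exact h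

theorem wit (hnt : Nontrivial Fi24') : Wit Fi24' := by
  have hne : γ .l ≠ γ .a := by
    intro h
    have hc := comm_of_all (collapse h)
    have : commutator Fi24 = ⊥ := by
      rw [commutator_eq_bot_iff_center_eq_top, Subgroup.eq_top_iff']
      intro x
      rw [Subgroup.mem_center_iff]
      intro y
      exact hc y x
    obtain ⟨x, y, hxy⟩ := hnt
    apply hxy
    have hx := x.2
    have hy := y.2
    simp only [this] at hx hy
    exact Subtype.ext ((Subgroup.mem_bot.1 hx).trans (Subgroup.mem_bot.1 hy).symm)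
  obtain ⟨h1, h2, h3, h4⟩ := a3_wit (p := γ .l) (q := γ .k) (r := γ .a) (s := γ .d) (gsq (by decide)) (gsq (by decide))
    (gsq (by decide)) (rel (by decide) (by decide) (by decide)) (rel (by decide) (by decide) (by decide))
    (rel (by decide) (by decide) (by decide)) (gsq (by decide)) (gcomm (by decide) (by decide) (by decide))
    (gcomm (by decide) (by decide) (by decide)) (gcomm (by decide) (by decide) (by decide)) hne
  have m1 : γ .l * γ .a ∈ commutator Fi24 := by
    refine mem_comm ?_
    rw [map_mul, ab .l, ab .a, dd]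
  have m2 : γ .l * γ .k * γ .a * γ .d ∈ commutator Fi24 := by
    refine mem_comm ?_
    rw [map_mul, map_mul, map_mul, ab .l, ab .k, ab .a, dd, one_mul, dd]
  exact ⟨⟨_, m1⟩, ⟨_, m2⟩, 2, Subtype.ext h1, Subtype.ext h2, Subtype.ext h3, fun h => h4 (congrArg Subtype.val h)⟩

end F

/-! ### Th -/

namespace T
open Th

local notation "γ" => g edges extra

abbrev mk' : FreeGroup Gen →* Th := PresentedGroup.mk (coxRelators edges ∪ {r | r ∈ extra})

theorem relT {w : FreeGroup Gen} (h : w ∈ extra) : mk' w = 1 :=
  PresentedGroup.one_of_mem (Or.inr h)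

theorem mkpow (w : FreeGroup Gen) (n : ℕ) : mk' (w ^ n) = (mk' w) ^ n := map_pow mk' w n

/-- collapse of the relations of `Th` when `(cd)² = 1` -/
theorem triv {X : Type*} [Group X] {a b c d e s t u : X} (ra : a ^ 2 = 1) (rb : b ^ 2 = 1) (rc : c ^ 2 = 1) (rd : d ^ 2 = 1)
    (re : e ^ 2 = 1) (rab : (a * b) ^ 3 = 1) (rbc : (b * c) ^ 3 = 1) (rcd : a * ((c * d) ^ 4)⁻¹ = 1)
    (rde : (d * e) ^ 3 = 1) (r8 : (b * c * d * e) ^ 8 = 1) (rs : s ^ 7 = 1) (rsd : (s * d) ^ 2 = 1)
    (res : (e⁻¹ * s⁻¹ * e * s) * (((s ^ 3)⁻¹ * e * (s ^ 3))⁻¹) = 1) (rt : t ^ 3 = 1)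
    (ru : (u ^ 2) * ((a * c)⁻¹) = 1) (rtu : (u⁻¹ * t * u) * ((t⁻¹)⁻¹) = 1)
    (rus : (a * c) * (((u * s) ^ 3)⁻¹) = 1) (h : (c * d) * (c * d) = 1) :
    a = 1 ∧ b = 1 ∧ c = 1 ∧ d = 1 ∧ e = 1 ∧ s = 1 ∧ t = 1 ∧ u = 1 := by
  have ha : a = 1 := by
    have h4 : (c * d) ^ 4 = 1 := by
      have : (c * d) ^ 4 = ((c * d) * (c * d)) * ((c * d) * (c * d)) := by
        simp only [pow_succ, pow_zero, one_mul, mul_assoc]
      rw [this, h, one_mul]
    rw [h4, inv_one, mul_one] at rcd
    exact rcd
  subst ha
  have hb : b = 1 := by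
    rw [one_mul, pow_succ, rb, one_mul] at rab
    exact rab
  subst hb
  have hc : c = 1 := by
    rw [one_mul, pow_succ, rc, one_mul] at rbc
    exact rbc
  subst hc
  have hde : d = e := by
    rw [one_mul, one_mul] at r8
    have : (d * e) ^ 9 = 1 := by rw [show 9 = 3 * 3 by norm_num, pow_mul, rde, one_pow]
    rw [pow_succ, r8, one_mul] at this
    have hei : e⁻¹ = e := by
      rw [pow_two] at re
      exact inv_eq_of_mul_eq_one_right re
    rw [eq_inv_of_mul_eq_one_left this, hei]
  subst hde
  have hdi : d⁻¹ = d := by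
    rw [pow_two] at rd
    exact inv_eq_of_mul_eq_one_right rd
  have hsd : d * s * d = s⁻¹ := by
    rw [pow_two] at rsd
    have h1 : s * (d * s * d) = 1 := by rw [← rsd]; simp only [mul_assoc]
    exact (inv_eq_of_mul_eq_one_right h1).symm
  have hsd' : d * s = s⁻¹ * d := by
    rw [← hsd, mul_assoc (d * s) d d, ← pow_two, rd, mul_one]
  have hsd'' : d * s⁻¹ = s * d := by
    have := congrArg (fun x => x⁻¹) hsd'
    simp only [mul_inv_rev, inv_inv, hdi] at this
    -- s⁻¹ * d = d * s
    have h2 : d * (s⁻¹ * d) * d = d * (d * s) * d := by rw [this]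
    calc d * s⁻¹ = d * (s⁻¹ * d) * d := by
          rw [mul_assoc d (s⁻¹ * d) d, mul_assoc s⁻¹ d d, ← pow_two d, rd, mul_one]
      _ = d * (d * s) * d := h2
      _ = (d ^ 2) * s * d := by rw [pow_two]; simp only [mul_assoc]
      _ = s * d := by rw [rd, one_mul]
  have hd2 : s = 1 := by
    -- [d,s] = d s⁻¹ d s = s * s ; d^(s^3) = s⁻³ d s³ = d s^6
    have e1 : d⁻¹ * s⁻¹ * d * s = s * s := by
      rw [hdi, hsd'']
      calc s * d * d * s = s * (d ^ 2) * s := by rw [pow_two]; simp only [mul_assoc]
        _ = s * s := by rw [rd, mul_one]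
    have hc3 : ∀ n : ℕ, d * s ^ n = (s ^ n)⁻¹ * d := by
      intro n
      have h1 : d * s ^ n * d⁻¹ = (d * s * d⁻¹) ^ n := by
        rw [conj_pow]
      rw [hdi, hsd, inv_pow] at h1
      rw [← h1, mul_assoc, mul_assoc, ← pow_two d, rd, mul_one]
    have e2 : (s ^ 3)⁻¹ * d * s ^ 3 = (s ^ 6)⁻¹ * d := by
      rw [mul_assoc, hc3, ← mul_assoc, ← mul_inv_rev, ← pow_add]
    have e3 : s * s = (s ^ 6)⁻¹ * d := by
      rw [e1, e2] at res
      exact eq_of_mul_inv_eq_one res
    have e4 : d = s ^ 8 := by
      have : s ^ 6 * (s * s) = d := by rw [e3]; group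
      rw [← this]
      rw [← pow_two, ← pow_add]
    have e5 : d = s := by
      rw [e4, show 8 = 7 + 1 by norm_num, pow_succ, rs, one_mul]
    rw [e5] at rd
    have : s ^ 7 = s := by
      rw [show 7 = 2 * 3 + 1 by norm_num, pow_succ, pow_mul, rd, one_pow, one_mul]
    rw [← this, rs]
  subst hd2
  have hd : d = 1 := by
    simp only [one_pow, inv_one, one_mul, mul_one, inv_mul_cancel] at res
    rw [inv_eq_one] at res
    exact res
  subst hd
  have hu : u = 1 := by
    simp only [mul_one, inv_one, inv_eq_one, one_mul] at ru rus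
    rw [pow_succ, ru, one_mul] at rus
    exact rus
  subst hu
  have ht : t = 1 := by
    simp only [inv_one, one_mul, mul_one, inv_inv] at rtu
    rw [pow_succ, pow_two, rtu, one_mul] at rt
    exact rt
  subst ht
  exact ⟨rfl, rfl, rfl, rfl, rfl, rfl, rfl, rfl⟩

theorem wit (hnt : Nontrivial Th) : Wit Th := by
  have rc : mk' Th.c ^ 2 = 1 := by
    exact relT (w := c ^ 2) (by simp [extra])
  have rd : mk' Th.d ^ 2 = 1 := by
    exact relT (w := d ^ 2) (by simp [extra])
  have ra : mk' Th.a ^ 2 = 1 := by
    exact relT (w := a ^ 2) (by simp [extra])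
  have rcd : mk' Th.a * ((mk' Th.c * mk' Th.d) ^ 4)⁻¹ = 1 := by
    exact relT (w := a * (((c * d) ^ 4)⁻¹)) (by simp [extra])
  have hne : (mk' Th.c * mk' Th.d) * (mk' Th.c * mk' Th.d) ≠ 1 := by
    intro h
    have H := triv (a := mk' Th.a) (b := mk' Th.b) (c := mk' Th.c) (d := mk' Th.d) (e := mk' Th.e) (s := mk' Th.s)
      (t := mk' Th.t) (u := mk' Th.u) ra
      (by exact relT (w := b ^ 2) (by simp [extra])) rc rd
      (by exact relT (w := e ^ 2) (by simp [extra]))
      (by exact relT (w := (a * b) ^ 3) (by simp [extra]))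
      (by exact relT (w := (b * c) ^ 3) (by simp [extra])) rcd
      (by exact relT (w := (d * e) ^ 3) (by simp [extra]))
      (by exact relT (w := (b * c * d * e) ^ 8) (by simp [extra]))
      (by exact relT (w := s ^ 7) (by simp [extra]))
      (by exact relT (w := (s * d) ^ 2) (by simp [extra]))
      (by exact
        relT (w := (e⁻¹ * s⁻¹ * e * s) * (((s ^ 3)⁻¹ * e * (s ^ 3))⁻¹)) (by simp [extra]))
      (by exact relT (w := t ^ 3) (by simp [extra]))
      (by exact relT (w := (u ^ 2) * ((a * c)⁻¹)) (by simp [extra]))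
      (by exact relT (w := (u⁻¹ * t * u) * ((t⁻¹)⁻¹)) (by simp [extra]))
      (by exact relT (w := (a * c) * (((u * s) ^ 3)⁻¹)) (by simp [extra])) h
    obtain ⟨h1, h2, h3, h4, h5, h6, h7, h8⟩ := H
    have hall : ∀ x : Gen, g edges extra x = 1 := by
      intro x
      cases x <;> assumption
    have htop : ∀ z : Th, z = 1 := by
      intro z
      have hz : z ∈ Subgroup.closure (Set.range (PresentedGroup.of (rels := coxRelators edges ∪ {r | r ∈ extra}))) := by
        rw [PresentedGroup.closure_range_of]; trivial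
      have : z ∈ (⊥ : Subgroup Th) := by
        refine (Subgroup.closure_le _).2 ?_ hz
        rintro _ ⟨x, rfl⟩
        exact hall x
      exact this
    obtain ⟨x, y, hxy⟩ := hnt
    exact hxy ((htop x).trans (htop y).symm)
  have hci : (mk' Th.c)⁻¹ = mk' Th.c := by
    rw [pow_two] at rc
    exact inv_eq_of_mul_eq_one_right rc
  have hdi : (mk' Th.d)⁻¹ = mk' Th.d := by
    rw [pow_two] at rd
    exact inv_eq_of_mul_eq_one_right rd
  refine ⟨mk' Th.c, mk' Th.c * mk' Th.d, 3, by rw [← pow_two]; exact rc, ?_, ?_, hne⟩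
  · have h4 : mk' Th.a = (mk' Th.c * mk' Th.d) ^ 4 := eq_of_mul_inv_eq_one rcd
    rw [show 2 ^ 3 = 4 * 2 by norm_num, pow_mul, ← h4, ra]
  · rw [mul_inv_rev, hci, hdi, ← mul_assoc, ← pow_two, rc, one_mul]

end T

end H23.NA
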