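import Cfsg.Agent.Lib.H23.NAJ4
import Cfsg.Agent.Lib.H23.NAPres

/-! S2883: the presented group J4 has a nonabelian Sylow 2-subgroup (if it is finite and not trivial). -/

set_option autoImplicit false
set_option maxRecDepth 20000

namespace H23.NA.J
open Cfsg.Spor Cfsg.Spor.J4 H23.NAJ4

/-- letters -/
def gg {G : Type} [Group G] (x y : G) : Lt → G
  | .x => x
  | .y => y
  | .yi => y⁻¹

theorem collapse {G : Type} [Group G] {x y t : G} (rx : x ^ 2 = 1) (ry : y ^ 3 = 1) (rxy : (x * y) ^ 23 = 1)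
    (r6 : (x⁻¹ * y⁻¹ * x * y) ^ 6 = 1) (r5 : (x⁻¹ * (y * x * y)⁻¹ * x * (y * x * y)) ^ 5 = 1)
    (r4 : (x * y * ((x * y * x * (y⁻¹)) ^ 3)) ^ 4 = 1)
    (r3 : ((x * y * x * y * x * (y⁻¹)) ^ 3) * ((x * y * x * (y⁻¹) * x * (y⁻¹)) ^ 3) = 1) (rt : t ^ 2 = 1)
    (rl : (y * ((y * x * (y⁻¹) * x * y * x * (y⁻¹) * x)⁻¹ * t * (y * x * (y⁻¹) * x * y * x * (y⁻¹) * x))) ^ 3 = 1) :
    x = 1 ∧ y = 1 ∧ t = 1 := by
  have hxi : x⁻¹ = x := by
    rw [pow_two] at rx
    exact inv_eq_of_mul_eq_one_right rx
  have hidx := H23.NAJ4.main (g := gg x y) (H := Subgroup.zpowers (x * y))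
    (by
      intro l
      cases l
      · exact hxi.symm
      · rfl
      · exact (inv_inv y).symm)
    (by
      intro a b
      cases a <;> cases b <;> first | exact pow_zero _ | skip
      change (x * x) ^ 1 = 1
      rw [pow_one, ← pow_two, rx])
    (by
      intro p hp
      simp only [H23.NAJ4.extra, List.mem_cons, List.not_mem_nil, or_false] at hp
      rcases hp with rfl | rfl | rfl | rfl | rfl | rfl | rfl | rfl
      · simp only [List.map_cons, List.map_nil, List.prod_cons, List.prod_nil, mul_one, gg]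
        exact ry
      · simp only [List.map_cons, List.map_nil, List.prod_cons, List.prod_nil, mul_one, gg]
        simp only [hxi, mul_assoc] at r6 ⊢
        exact r6
      · simp only [List.map_cons, List.map_nil, List.prod_cons, List.prod_nil, mul_one, gg, pow_one]
        simp only [pow_succ, pow_zero, one_mul, mul_assoc] at r3 ⊢
        exact r3
      · simp only [List.map_cons, List.map_nil, List.prod_cons, List.prod_nil, mul_one, gg]
        simp only [mul_inv_rev, hxi, mul_assoc] at r5 ⊢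
        exact r5
      · simp only [List.map_cons, List.map_nil, List.prod_cons, List.prod_nil, mul_one, gg]
        exact rxy
      · simp only [List.map_cons, List.map_nil, List.prod_cons, List.prod_nil, mul_one, gg]
        have : x * (y * (x * (y * (x * (y⁻¹ * (x * (y * (x * (y⁻¹ * (x * (y * (x * y⁻¹)))))))))))) =
            x * y * ((x * y * x * (y⁻¹)) ^ 3) := by
          simp only [pow_succ, pow_zero, one_mul, mul_assoc]
        rw [this]
        exact r4
      · simp only [List.map_cons, List.map_nil, List.prod_cons, List.prod_nil, mul_one, gg, pow_one]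
        exact mul_inv_cancel y
      · simp only [List.map_cons, List.map_nil, List.prod_cons, List.prod_nil, mul_one, gg, pow_one]
        exact inv_mul_cancel y)
    (by
      intro r hr
      simp only [H23.NAJ4.subs, List.mem_cons, List.not_mem_nil, or_false] at hr
      subst hr
      simp only [List.map_cons, List.map_nil, List.prod_cons, List.prod_nil, mul_one, gg]
      exact Subgroup.mem_zpowers _)
  have h1 : (Subgroup.zpowers (x * y)).relIndex (Subgroup.closure (Set.range (gg x y))) = 1 := by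
    have := hidx.1; have := hidx.2; omega
  have hle := Subgroup.relIndex_eq_one.1 h1
  have hx : x ∈ Subgroup.zpowers (x * y) := hle (Subgroup.subset_closure ⟨.x, rfl⟩)
  obtain ⟨m, hm⟩ := Subgroup.mem_zpowers_iff.1 hx
  have hc : x * (x * y) = (x * y) * x := by
    have : Commute ((x * y) ^ m) (x * y) := (Commute.refl (x * y)).zpow_left m
    rw [hm] at this
    exact this
  have hc2 : x * y = y * x := by
    rw [mul_assoc] at hc
    exact mul_left_cancel hc
  have hxy : x * y = 1 := by
    have h6 : (x * y) ^ 6 = 1 := by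
      have : Commute x y := hc2
      rw [this.mul_pow, show 6 = 2 * 3 by norm_num, pow_mul, rx, one_pow, one_mul, mul_comm 2 3, pow_mul, ry, one_pow]
    have h24 : (x * y) ^ 24 = 1 := by
      rw [show 24 = 6 * 4 by norm_num, pow_mul, h6, one_pow]
    rw [pow_succ, rxy, one_mul] at h24
    exact h24
  have hyx : y = x := by
    rw [← hxi]
    exact (inv_eq_of_mul_eq_one_right hxy).symm
  subst hyx
  have hy : y = 1 := by
    rw [pow_succ, rx, one_mul] at ry
    exact ry
  subst hy
  refine ⟨rfl, rfl, ?_⟩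
  simp only [inv_one, one_mul, mul_one] at rl
  rw [pow_succ, rt, one_mul] at rl
  exact rl

/-- the quotient map -/
abbrev mk' : FreeGroup Gen →* J4 := PresentedGroup.mk (coxRelators edges ∪ {r | r ∈ J4.extra})

theorem relT {w : FreeGroup Gen} (h : w ∈ J4.extra) : mk' w = 1 :=
  PresentedGroup.one_of_mem (Or.inr h)

set_option linter.constructorNameAsVariable false in
theorem wit (hnt : Nontrivial J4) : Wit J4 := by
  have rx : mk' J4.x ^ 2 = 1 := relT (w := J4.x ^ 2) (by simp [J4.extra])
  have r12 : ((mk' J4.x)⁻¹ * (mk' J4.y)⁻¹ * mk' J4.x * mk' J4.y) ^ 12 = 1 :=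
    relT (w := (J4.x⁻¹ * J4.y⁻¹ * J4.x * J4.y) ^ 12) (by simp [J4.extra])
  have hxi : (mk' J4.x)⁻¹ = mk' J4.x := by
    rw [pow_two] at rx
    exact inv_eq_of_mul_eq_one_right rx
  have hne : ((mk' J4.x)⁻¹ * (mk' J4.y)⁻¹ * mk' J4.x * mk' J4.y) ^ 6 ≠ 1 := by
    intro h
    have H := collapse (x := mk' J4.x) (y := mk' J4.y) (t := mk' J4.t) rx
      (relT (w := J4.y ^ 3) (by simp [J4.extra]))
      (relT (w := (J4.x * J4.y) ^ 23) (by simp [J4.extra])) h
      (relT (w := (J4.x⁻¹ * (J4.y * J4.x * J4.y)⁻¹ * J4.x * (J4.y * J4.x * J4.y)) ^ 5) (by simp [J4.extra]))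
      (relT (w := (J4.x * J4.y * ((J4.x * J4.y * J4.x * (J4.y⁻¹)) ^ 3)) ^ 4) (by simp [J4.extra]))
      (relT (w := ((J4.x * J4.y * J4.x * J4.y * J4.x * (J4.y⁻¹)) ^ 3) *
        ((J4.x * J4.y * J4.x * (J4.y⁻¹) * J4.x * (J4.y⁻¹)) ^ 3)) (by simp [J4.extra]))
      (relT (w := J4.t ^ 2) (by simp [J4.extra]))
      (relT (w := (J4.y * ((J4.y * J4.x * (J4.y⁻¹) * J4.x * J4.y * J4.x * (J4.y⁻¹) * J4.x)⁻¹ * J4.t *
        (J4.y * J4.x * (J4.y⁻¹) * J4.x * J4.y * J4.x * (J4.y⁻¹) * J4.x))) ^ 3) (by simp [J4.extra]))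
    obtain ⟨h1, h2, h3⟩ := H
    have hall : ∀ x : Gen, g edges J4.extra x = 1 := by
      intro x
      cases x <;> assumption
    have htop : ∀ z : J4, z = 1 := by
      intro z
      have hz : z ∈ Subgroup.closure (Set.range (PresentedGroup.of (rels := coxRelators edges ∪ {r | r ∈ J4.extra}))) := by
        rw [PresentedGroup.closure_range_of]; trivial
      have : z ∈ (⊥ : Subgroup J4) := by
        refine (Subgroup.closure_le _).2 ?_ hz
        rintro _ ⟨x, rfl⟩
        exact hall x
      exact this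
    obtain ⟨x, y, hxy⟩ := hnt
    exact hxy ((htop x).trans (htop y).symm)
  generalize mk' J4.x = a at *
  generalize mk' J4.y = b at *
  refine ⟨a, (a⁻¹ * b⁻¹ * a * b) ^ 3, 2, by rw [← pow_two]; exact rx, ?_, ?_, ?_⟩
  · rw [← pow_mul]; exact r12
  · have h1 : a * (a⁻¹ * b⁻¹ * a * b) * a⁻¹ = (a⁻¹ * b⁻¹ * a * b)⁻¹ := by
      simp only [mul_inv_rev, inv_inv]
      rw [hxi]
      rw [show a * (a * b⁻¹ * a * b) * a = (a * a) * b⁻¹ * a * b * a by simp only [mul_assoc], ← pow_two, rx, one_mul]
      simp only [mul_assoc]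
    rw [← conj_pow, h1, inv_pow]
  · rw [← pow_add]; exact hne

end H23.NA.J
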