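/-
H23: upper bound for the Schur multiplier of Sz(8).
-/
import Cfsg.Agent.Lib.H40.SzMult
import Cfsg.Agent.Lib.H23.SuzGen

set_option autoImplicit false
set_option linter.unusedVariables false

open Subgroup H40.Stem H40.StemFinish
open scoped commutatorElement

universe u v

namespace H23.Sz8

open H8.SuzField H8.SuzMat H8.SuzGroup H8.SuzSylow H8.SuzCent H40.SzMult

variable {F : Type u} [Field F] [Fintype F] {m : ℕ} (hF : Fintype.card F = 2 ^ (2 * m + 1))
  {Γ : Type v} [Group Γ] {σ : Γ →* Cfsg.Sz F m}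

include hF

/-- the commutator subgroup of the preimage of the Sylow subgroup meets the kernel trivially -/
theorem step5' (hm : 1 ≤ m) (hs : Function.Surjective σ) (hc : σ.ker ≤ center Γ)
    (hst2 : ∀ (x y : Γ) (a a' b : F), σ x = tG hF a a' → σ y = tG hF 0 b → x * y = y * x) {z : Γ} (hz : z ∈ σ.ker)
    (hz' : z ∈ ⁅(TT (m := m) hF).comap σ, (TT (m := m) hF).comap σ⁆) : z = 1 := by
  classical
  have hch := charP_two hF
  have htwo := two_eq_zero hF
  obtain ⟨t₀, ht₀⟩ := exists_th_ne (m := m) (by omega) hF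
  -- a torus element acting non-trivially
  obtain ⟨k₀, hk₀, hlm0⟩ : ∃ k : F, k ≠ 0 ∧ k * th m k + 1 ≠ 0 := by
    obtain ⟨k, hk⟩ := exists_k (F := F) (m := m) (by omega) hF
    refine ⟨k, k.ne_zero, fun h => hk ?_⟩
    have h1 : (k : F) * th m (k : F) = 1 := by
      have : (k : F) * th m (k : F) + 1 + 1 = 1 := by rw [h, zero_add]
      rwa [add_assoc, one_add_one_eq_two, htwo, add_zero] at this
    have := k_eq_one hF h1
    exact Units.ext this
  set lam := k₀ * th m k₀ + 1 with hlam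
  have hTT : ∀ s t : F, (tG hF 0 s : Cfsg.Sz F m) * tG hF 0 t = tG hF 0 (s + t) := by
    intro s t
    rw [tG_mul, th_zero]
    congr 1 <;> ring
  obtain ⟨d₀, hd₀⟩ := hs (dG hF (Units.mk0 k₀ hk₀))
  choose ℓ hℓ using fun s : F => hs (tG hF 0 s)
  choose r hr using fun s : F => hs (tG hF s 0)
  have hinv0 : ∀ b : F, (tG hF 0 b : Cfsg.Sz F m)⁻¹ = tG hF 0 b := by
    intro b
    rw [inv_eq_iff_mul_eq_one, hTT, CharTwo.add_self_eq_zero, tG_one]
  -- canonical lifts
  let s : F → Γ := fun b => ⁅d₀, ℓ (lam⁻¹ * b)⁆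
  have hs1 : ∀ (d e : Γ) (b : F), σ d = dG hF (Units.mk0 k₀ hk₀) → σ e = tG hF 0 (lam⁻¹ * b) → ⁅d, e⁆ = s b := by
    intro d e b hd he
    exact comm_dep hc (by rw [hd, hd₀]) (by rw [he, hℓ])
  have hsσ : ∀ b, σ (s b) = tG hF 0 b := by
    intro b
    change σ ⁅d₀, ℓ (lam⁻¹ * b)⁆ = _
    rw [map_commutatorElement, commutatorElement_def, hd₀, hℓ, conj_T, Units.val_mk0, hinv0, mul_zero, hTT]
    congr 1
    have : k₀ * th m k₀ * (lam⁻¹ * b) + lam⁻¹ * b = lam * lam⁻¹ * b := by rw [hlam]; ring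
    rw [this, mul_inv_cancel₀ hlm0, one_mul]
  have hs_add : ∀ b b', s (b + b') = s b * s b' := by
    intro b b'
    rw [← hs1 d₀ (ℓ (lam⁻¹ * b) * ℓ (lam⁻¹ * b')) (b + b') hd₀ (by rw [map_mul, hℓ, hℓ, hTT, mul_add]),
      comm_mul_right]
    exact step1 hF (by omega) hs hc (hℓ _) (hsσ b')
  have hs_conj : ∀ (x : Γ) (k : F) (hk : k ≠ 0) (b : F), σ x = dG hF (Units.mk0 k hk) →
      x * s b * x⁻¹ = s (k * th m k * b) := by
    intro x k hk b hx
    change x * ⁅d₀, ℓ (lam⁻¹ * b)⁆ * x⁻¹ = _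
    rw [← comm_conj]
    apply hs1
    · rw [map_mul, map_mul, map_inv, hx, hd₀, ← map_mul, mul_comm (Units.mk0 k hk), map_mul, mul_inv_cancel_right]
    · rw [map_mul, map_mul, map_inv, hx, hℓ, conj_T, Units.val_mk0, mul_zero]
      congr 1
      ring
  have hs0 : s 0 = 1 := by
    have := hs_add 0 0
    rw [add_zero] at this
    exact left_eq_mul.mp this
  have hs_comm : ∀ (b : F) (x : Γ) (a a' : F), σ x = tG hF a a' → x * s b = s b * x :=
    fun b x a a' hx => hst2 _ _ _ _ _ hx (hsσ b)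
  -- the commutator of lifts
  have hTT' : ∀ a s t : F, (tG hF a s : Cfsg.Sz F m) * tG hF 0 t = tG hF a (s + t) := by
    intro a s t
    rw [tG_mul]
    congr 1 <;> ring
  have hκ : ∀ (x y : Γ) (a a' c c' : F), σ x = tG hF a a' → σ y = tG hF c c' → ⁅x, y⁆ = ⁅r a, r c⁆ := by
    intro x y a a' c c' hx hy
    have h1 : ⁅x, y⁆ = ⁅r a * ℓ a', r c * ℓ c'⁆ :=
      comm_dep hc (by rw [map_mul, hr, hℓ, hTT', zero_add, hx]) (by rw [map_mul, hr, hℓ, hTT', zero_add, hy])
    have h2 : ⁅ℓ a', r c * ℓ c'⁆ = 1 := by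
      rw [commutatorElement_eq_one_iff_mul_comm]
      exact (hst2 _ _ _ _ _ (by rw [map_mul, hr, hℓ, hTT']) (hℓ a')).symm
    have h3 : ⁅r a, ℓ c'⁆ = 1 := by
      rw [commutatorElement_eq_one_iff_mul_comm]
      exact hst2 _ _ _ _ _ (hr a) (hℓ c')
    rw [h1, comm_mul_left (by rw [h2]; group), h2, one_mul, comm_mul_right (by rw [h3]; group), h3, mul_one]
  have hT0 : ∀ a b : F, (tG hF a b : Cfsg.Sz F m)⁻¹ = tG hF a (b + th m a * a) := by
    intro a b
    apply Subtype.ext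
    exact T_inv hF a b
  have hcomT : ∀ a c : F, ⁅(tG hF a 0 : Cfsg.Sz F m), tG hF c 0⁆ = tG hF 0 (th m a * c + th m c * a) := by
    intro a c
    rw [commutatorElement_def, hT0, hT0, tG_mul, tG_mul, tG_mul]
    congr 1
    · linear_combination (a + c) * htwo
    · simp only [th_add hF]
      linear_combination (th m a * a + th m c * c + th m a * c) * htwo
  have hκσ : ∀ a c : F, σ ⁅r a, r c⁆ = tG hF 0 (th m a * c + th m c * a) := by
    intro a c
    rw [map_commutatorElement, hr, hr, hcomT]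
  have hκl : ∀ a a' c : F, ⁅r (a + a'), r c⁆ = ⁅r a', r c⁆ * ⁅r a, r c⁆ := by
    intro a a' c
    rw [← hκ (r a * r a') (r c) (a + a') (0 + 0 + th m a * a') c 0 (by rw [map_mul, hr, hr, tG_mul]) (hr c),
      comm_mul_left]
    exact hst2 _ _ _ _ _ (hr a) (hκσ a' c)
  have hκr : ∀ a c c' : F, ⁅r a, r (c + c')⁆ = ⁅r a, r c⁆ * ⁅r a, r c'⁆ := by
    intro a c c'
    rw [← hκ (r a) (r c * r c') a 0 (c + c') (0 + 0 + th m c * c') (hr a) (by rw [map_mul, hr, hr, tG_mul]),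
      comm_mul_right]
    exact hst2 _ _ _ _ _ (hr c) (hκσ a c')
  have hζker : ∀ a c : F, ⁅r a, r c⁆ * (s (th m a * c + th m c * a))⁻¹ ∈ σ.ker := by
    intro a c
    rw [MonoidHom.mem_ker, map_mul, map_inv, hκσ, hsσ, mul_inv_cancel]
  have hcomm : ∀ a c (g : Γ), g * (⁅r a, r c⁆ * (s (th m a * c + th m c * a))⁻¹) =
      (⁅r a, r c⁆ * (s (th m a * c + th m c * a))⁻¹) * g := fun a c g =>
    mem_center_iff.mp (hc (hζker a c)) g
  let B : F → F → center Γ := fun a c => ⟨⁅r a, r c⁆ * (s (th m a * c + th m c * a))⁻¹, hc (hζker a c)⟩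
  -- elements of the preimage of the centre commute with everything relevant
  have hE : ∀ (x y : Γ) (a a' b : F), σ x = tG hF a a' → σ y = tG hF 0 b → x * y = y * x :=
    fun x y a a' b hx hy => hst2 _ _ _ _ _ hx hy
  have hl : ∀ a a' c, B (a + a') c = B a c * B a' c := by
    intro a a' c
    apply Subtype.ext
    change ⁅r (a + a'), r c⁆ * (s (th m (a + a') * c + th m c * (a + a')))⁻¹ =
      (⁅r a, r c⁆ * (s (th m a * c + th m c * a))⁻¹) * (⁅r a', r c⁆ * (s (th m a' * c + th m c * a'))⁻¹)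
    have e : th m (a + a') * c + th m c * (a + a') =
        (th m a' * c + th m c * a') + (th m a * c + th m c * a) := by rw [th_add hF]; ring
    rw [hκl, e, hs_add, mul_inv_rev]
    have h1 := hE ⁅r a', r c⁆ (⁅r a, r c⁆ * (s (th m a * c + th m c * a))⁻¹) _ _ 0 (hκσ a' c)
      (by rw [tG_one]; exact hζker a c)
    calc ⁅r a', r c⁆ * ⁅r a, r c⁆ * ((s (th m a * c + th m c * a))⁻¹ * (s (th m a' * c + th m c * a'))⁻¹)
        = ⁅r a', r c⁆ * (⁅r a, r c⁆ * (s (th m a * c + th m c * a))⁻¹) * (s (th m a' * c + th m c * a'))⁻¹ := by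
          group
      _ = (⁅r a, r c⁆ * (s (th m a * c + th m c * a))⁻¹) * ⁅r a', r c⁆ * (s (th m a' * c + th m c * a'))⁻¹ := by
          rw [h1]
      _ = _ := by group
  have hrr : ∀ a c c', B a (c + c') = B a c * B a c' := by
    intro a c c'
    apply Subtype.ext
    change ⁅r a, r (c + c')⁆ * (s (th m a * (c + c') + th m (c + c') * a))⁻¹ =
      (⁅r a, r c⁆ * (s (th m a * c + th m c * a))⁻¹) * (⁅r a, r c'⁆ * (s (th m a * c' + th m c' * a))⁻¹)
    have e : th m a * (c + c') + th m (c + c') * a =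
        (th m a * c + th m c * a) + (th m a * c' + th m c' * a) := by rw [th_add hF]; ring
    rw [hκr, e, hs_add, mul_inv_rev]
    have h1 := hcomm a c' (s (th m a * c + th m c * a))⁻¹
    calc ⁅r a, r c⁆ * ⁅r a, r c'⁆ * ((s (th m a * c' + th m c' * a))⁻¹ * (s (th m a * c + th m c * a))⁻¹)
        = ⁅r a, r c⁆ * ((⁅r a, r c'⁆ * (s (th m a * c' + th m c' * a))⁻¹) * (s (th m a * c + th m c * a))⁻¹) := by
          group
      _ = _ := by rw [← h1]; group
  have ha : ∀ a, B a a = 1 := by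
    intro a
    apply Subtype.ext
    change ⁅r a, r a⁆ * (s (th m a * a + th m a * a))⁻¹ = 1
    rw [commutatorElement_self, CharTwo.add_self_eq_zero, hs0]
    group
  have hinv : ∀ c a a', c ≠ 0 → B (c ^ 2 * a) (c ^ 2 * a') = B a a' := by
    intro c a a' hc0
    have hk0 : c ^ 2 ≠ 0 := pow_ne_zero 2 hc0
    apply Subtype.ext
    obtain ⟨d, hd⟩ := hs (dG hF (Units.mk0 (c ^ 2) hk0))
    change ⁅r (c ^ 2 * a), r (c ^ 2 * a')⁆ * (s (th m (c ^ 2 * a) * (c ^ 2 * a') + th m (c ^ 2 * a') * (c ^ 2 * a)))⁻¹ =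
      ⁅r a, r a'⁆ * (s (th m a * a' + th m a' * a))⁻¹
    have e : th m (c ^ 2 * a) * (c ^ 2 * a') + th m (c ^ 2 * a') * (c ^ 2 * a) =
        c ^ 2 * th m (c ^ 2) * (th m a * a' + th m a' * a) := by
      rw [th_mul, th_mul]; ring
    rw [e, ← hs_conj d (c ^ 2) hk0 _ hd,
      ← hκ (d * r a * d⁻¹) (d * r a' * d⁻¹) (c ^ 2 * a) (c ^ 2 * th m (c ^ 2) * 0) (c ^ 2 * a')
        (c ^ 2 * th m (c ^ 2) * 0) (by rw [map_mul, map_mul, map_inv, hd, hr, conj_T, Units.val_mk0])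
        (by rw [map_mul, map_mul, map_inv, hd, hr, conj_T, Units.val_mk0]), comm_conj]
    have h1 : d * ⁅r a, r a'⁆ * d⁻¹ * (d * s (th m a * a' + th m a' * a) * d⁻¹)⁻¹ =
        d * (⁅r a, r a'⁆ * (s (th m a * a' + th m a' * a))⁻¹) * d⁻¹ := by group
    rw [h1, hcomm, mul_inv_cancel_right]
  letI : CommGroup (center Γ) := { (inferInstance : Group (center Γ)) with
    mul_comm := fun a b => Subtype.ext (mem_center_iff.mp b.2 a.1) }
  have hB1 := H40.FieldForm.form_trivial B hl hrr ha hinv (card_ne hF (by omega)).1 (card_ne hF (by omega)).2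
  -- the subgroup of canonical lifts
  let S : Subgroup Γ :=
    { carrier := Set.range s
      one_mem' := ⟨0, hs0⟩
      mul_mem' := by
        rintro _ _ ⟨b, rfl⟩ ⟨b', rfl⟩
        exact ⟨b + b', hs_add b b'⟩
      inv_mem' := by
        rintro _ ⟨b, rfl⟩
        refine ⟨b, ?_⟩
        rw [eq_inv_iff_mul_eq_one, ← hs_add, CharTwo.add_self_eq_zero, hs0] }
  have hle : ⁅(TT (m := m) hF).comap σ, (TT (m := m) hF).comap σ⁆ ≤ S := by
    rw [commutator_le]
    rintro x ⟨a, a', hx⟩ y ⟨c, c', hy⟩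
    refine ⟨th m a * c + th m c * a, ?_⟩
    have h1 : (⁅r a, r c⁆ * (s (th m a * c + th m c * a))⁻¹ : Γ) = 1 := congrArg Subtype.val (hB1 a c)
    rw [hκ x y a a' c c' hx hy]
    exact (mul_inv_eq_one.mp h1).symm
  obtain ⟨b, rfl⟩ := hle hz'
  have h1 : σ (s b) = 1 := hz
  rw [hsσ, ← tG_one hF] at h1
  rw [(tG_inj hF h1).2, hs0]

theorem ker_eq_one' (hm : 1 ≤ m) [Finite Γ] (hσ : Cfsg.IsStemExtension σ)
    (hst2 : ∀ (x y : Γ) (a a' b : F), σ x = tG hF a a' → σ y = tG hF 0 b → x * y = y * x) : ∀ z ∈ σ.ker, z = 1 := by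
  classical
  intro z hz
  by_contra hne
  have hord : orderOf z ≠ 1 := fun h => hne (orderOf_eq_one_iff.mp h)
  obtain ⟨r, hr, hrz⟩ := Nat.exists_prime_and_dvd hord
  have : Fact r.Prime := ⟨hr⟩
  by_cases hr2 : r = 2
  · subst hr2
    have h1 := pow_index_mem_commutator ((TT (m := m) hF).comap σ) (hσ.2.1 hz) (hσ.2.2 hz)
    rw [Subgroup.index_comap_of_surjective _ hσ.1] at h1
    have h2 := step5' hF hm hσ.1 hσ.2.1 hst2 (pow_mem hz _) h1
    exact odd_index (by omega) hF (hrz.trans (orderOf_dvd_of_pow_eq_one h2))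
  · obtain ⟨P⟩ : Nonempty (Sylow r (Cfsg.Sz F m)) := inferInstance
    have hcyc : IsCyclic P := sylow_cyclic (by omega) hF hr2 P
    have hcy : CycMult.{u, v} (P : Subgroup (Cfsg.Sz F m)) 1 := cycMult_of_isCyclic _
    obtain ⟨w, hw, hall⟩ := exists_pow_mem hσ (P : Subgroup (Cfsg.Sz F m)) hcy
    rw [pow_one] at hw
    have h1 := hall z hz
    rw [hw, zpowers_one_eq_bot, mem_bot] at h1
    exact P.not_dvd_index (hrz.trans (orderOf_dvd_of_pow_eq_one h1))


end H23.Sz8
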